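import Groth.Agent.ProjTilde.Frac
import Groth.Agent.GrModLib.Alpha

/-!
Vanishing of `M~`.
-/

universe u

open CategoryTheory CategoryTheory.Limits AlgebraicGeometry TopologicalSpace Opposite

noncomputable section

namespace Groth.Agent.ProjTilde

open GrModLib DirectSum

variable {R A : Type u} [CommRing R] [CommRing A] [Algebra R A] {𝒜 : ℕ → Submodule R A}
  [GradedAlgebra 𝒜]
variable {M : Type u} [AddCommGroup M] [Module R M] [Module A M] {ℳ : ℕ → Submodule R M}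
  [SetLike.GradedSMul 𝒜 ℳ]

/-- Some homogeneous element of positive degree does not vanish at a point. -/
theorem exists_homogeneous_not_mem (x : ProjectiveSpectrum 𝒜) :
    ∃ (d : ℕ) (f : A), 0 < d ∧ f ∈ 𝒜 d ∧ f ∉ x.asHomogeneousIdeal := by
  by_contra! h
  exact x.not_irrelevant_le ((HomogeneousIdeal.irrelevant_le _).mpr fun i hi a ha ↦ h i a hi ha)

/-- Some element of degree one does not vanish at a point. -/
theorem exists_degree_one_not_mem
    (hgen : (HomogeneousIdeal.irrelevant 𝒜).toIdeal = Ideal.span (𝒜 1 : Set A))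
    (x : ProjectiveSpectrum 𝒜) : ∃ f : A, f ∈ 𝒜 1 ∧ f ∉ x.asHomogeneousIdeal := by
  by_contra! h
  refine x.not_irrelevant_le (show (HomogeneousIdeal.irrelevant 𝒜).toIdeal ≤
    x.asHomogeneousIdeal.toIdeal from ?_)
  rw [hgen]
  exact Ideal.span_le.mpr fun a ha ↦ h a ha

/-- `M(n)~ = 0` if the elements of positive degree act locally nilpotently. -/
theorem isZero_tilde (n : ℤ)
    (h : ∀ (z : M) (d : ℕ) (f : A), 0 < d → f ∈ 𝒜 d → ∃ k : ℕ, f ^ k • z = 0) :
    IsZero (GrTilde.tilde 𝒜 ℳ n) := by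
  rw [IsZero.iff_id_eq_zero]
  refine Scheme.Modules.hom_ext _ _ fun U ↦ ?_
  ext s
  change s = 0
  let s' : GrTilde.sect 𝒜 ℳ n (op U) := s
  change s' = 0
  refine Subtype.ext (funext fun x ↦ Subtype.ext ?_)
  obtain ⟨i, j, m, t, ht, -, -, -, e⟩ := exists_mk_of_mem (s'.1 x).2
  obtain ⟨d, f, hd, hf, hfx⟩ := exists_homogeneous_not_mem x.1
  obtain ⟨k, hk⟩ := h m d f hd hf
  refine e.trans ?_
  exact mk_eq_zero_iff.mpr ⟨f ^ k, pow_nin hfx k, hk⟩

variable [DirectSum.Decomposition ℳ]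

/-- If `M~ = 0` then the elements of positive degree act locally nilpotently. -/
theorem exists_pow_smul_eq_zero_of_isZero
    (hgen : (HomogeneousIdeal.irrelevant 𝒜).toIdeal = Ideal.span (𝒜 1 : Set A))
    (h : IsZero (GrTilde.tilde 𝒜 ℳ 0)) (z : M) {d : ℕ} {f : A} (hd : 0 < d) (hf : f ∈ 𝒜 d) :
    ∃ k : ℕ, f ^ k • z = 0 := by
  induction z using DirectSum.Decomposition.inductionOn ℳ with
  | zero => exact ⟨0, smul_zero _⟩
  | add a b ha hb =>
    obtain ⟨k, hk⟩ := ha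
    obtain ⟨l, hl⟩ := hb
    refine ⟨k + l, ?_⟩
    rw [smul_add, pow_add, mul_comm, mul_smul, hk, smul_zero, zero_add, mul_comm, mul_smul, hl,
      smul_zero]
  | homogeneous y =>
    rename_i i
    refine GrModLib.exists_pow_smul_eq_zero (ℳ := ℳ) y.2 hf hd fun x _ ↦ ?_
    obtain ⟨g, hg, hgx⟩ := exists_degree_one_not_mem hgen x
    have hgi : g ^ i ∈ 𝒜 i := by simpa using SetLike.pow_mem_graded i hg
    let W : (Proj 𝒜).Opens := Proj.basicOpen 𝒜 g
    let t : GrTilde.sect 𝒜 ℳ 0 (op W) := fracSec (ℳ := ℳ) y.2 hgi 0 (add_zero _).symm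
      (fun z ↦ pow_nin ((Proj.mem_basicOpen 𝒜 g z.1).mp z.2) i)
    have hsub : Subsingleton Γ(GrTilde.tilde 𝒜 ℳ 0, W) := by
      refine ⟨fun a b ↦ ?_⟩
      have e := congr($(h.eq_of_src (𝟙 _) 0).app W)
      exact ((congr($e a)).trans (congr($e b)).symm)
    have ht : t = 0 := @Subsingleton.elim Γ(GrTilde.tilde 𝒜 ℳ 0, W) hsub t 0
    refine (mk_eq_zero_iff (s := g ^ i) (hs := pow_nin hgx i)).mp ?_
    exact congrArg (fun s : GrTilde.sect 𝒜 ℳ 0 (op W) ↦
      (s.1 ⟨x, (Proj.mem_basicOpen 𝒜 g x).mpr hgx⟩).1) ht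

end Groth.Agent.ProjTilde
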