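import Groth.Agent.ProjTilde.Act
import Groth.Agent.ProjTilde.Vanish
import Groth.Agent.ProjTwist.Tensor

/-!
Invertibility of the twists, `M(m)~ ⊗ O(n * d) ≅ M(n * d + m)~`, and their consequences.
-/

universe u

open CategoryTheory CategoryTheory.Limits AlgebraicGeometry TopologicalSpace Opposite

noncomputable section

namespace Groth.Agent.ProjTilde

open GrModLib DirectSum Groth.Agent.QCoh Groth.Agent.Props.GenLocus Groth.Agent.Props.GenTensor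

variable {R A : Type u} [CommRing R] [CommRing A] [Algebra R A] {𝒜 : ℕ → Submodule R A}
  [GradedAlgebra 𝒜]

variable (𝒜) in
/-- `U` is covered by the `D₊(a * b)` with `deg a = deg b + d`. -/
def CoveredBy (d : ℕ) (U : (Proj 𝒜).Opens) : Prop :=
  ∀ x ∈ U, ∃ (i j : ℕ) (a b : A), a ∈ 𝒜 i ∧ b ∈ 𝒜 j ∧ i = j + d ∧ x ∈ Proj.basicOpen 𝒜 (a * b)

lemma coveredBy_top_one
    (hgen : (HomogeneousIdeal.irrelevant 𝒜).toIdeal = Ideal.span (𝒜 1 : Set A)) :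
    CoveredBy 𝒜 1 ⊤ := fun x _ ↦ by
  obtain ⟨f, hf, hfx⟩ := exists_degree_one_not_mem hgen (show ProjectiveSpectrum 𝒜 from x)
  refine ⟨1, 0, f, 1, hf, SetLike.GradedOne.one_mem, rfl, ?_⟩
  rw [mul_one]
  exact hfx

lemma coveredBy_of_iSup {d : ℕ} : CoveredBy 𝒜 d (⨆ f : 𝒜 d, Proj.basicOpen 𝒜 (f : A)) :=
  fun x hx ↦ by
  obtain ⟨f, hf⟩ := Opens.mem_iSup.mp hx
  exact ⟨d, 0, f, 1, f.2, SetLike.GradedOne.one_mem, (zero_add d).symm, by rwa [mul_one]⟩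

lemma coveredBy_of_iSup_mul {d : ℕ} : CoveredBy 𝒜 d
    (⨆ (j : ℕ) (a : 𝒜 (j + d)) (b : 𝒜 j), Proj.basicOpen 𝒜 ((a : A) * b)) := fun x hx ↦ by
  obtain ⟨j, hx⟩ := Opens.mem_iSup.mp hx
  obtain ⟨a, hx⟩ := Opens.mem_iSup.mp hx
  obtain ⟨b, hx⟩ := Opens.mem_iSup.mp hx
  exact ⟨j + d, j, a, b, a.2, b.2, rfl, hx⟩

/-- `O(n * d)` is trivial on `D₊(a * b)`. -/
theorem nonempty_restrict_iso {d i j : ℕ} {a b : A} (ha : a ∈ 𝒜 i) (hb : b ∈ 𝒜 j)
    (hij : i = j + d) (n : ℤ) {U : (Proj 𝒜).Opens} (hU : U ≤ Proj.basicOpen 𝒜 (a * b)) :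
    Nonempty ((Twist.twist 𝒜 (n * d)).restrict U.ι ≅ Coh.structureModule (U : Scheme.{u})) :=
  LFFrame.IsFrame.nonempty_restrict_iso
    ((isGen_iff_isFrame _).mp (isGen_frame ha hb hij n hU))

/-- `O(n * d)` is invertible where covered. -/
theorem isInvertible_restrict {d : ℕ} {U : (Proj 𝒜).Opens} (hU : CoveredBy 𝒜 d U) (n : ℤ) :
    PicF.IsInvertible ((Twist.twist 𝒜 (n * d)).restrict U.ι) := fun x ↦ by
  obtain ⟨i, j, a, b, ha, hb, hij, hx⟩ := hU x.1 x.2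
  set W := U.ι ⁻¹ᵁ Proj.basicOpen 𝒜 (a * b)
  have hW : U.ι ''ᵁ W ≤ Proj.basicOpen 𝒜 (a * b) := fun y ⟨z, hz, e⟩ ↦ e ▸ hz
  refine ⟨W, hx, LFFrame.IsFrame.nonempty_restrict_iso
    (e := fun _ ↦ (show Γ((Twist.twist 𝒜 (n * d)).restrict U.ι, W) from frame ha hb hij n hW)) ?_⟩
  refine (isGen_iff_isFrame _).mp fun V hV ↦ ?_
  exact ((isGen_frame ha hb hij n hW) (U.ι ''ᵁ V) (U.ι.image_mono hV)).comp
    (ConcreteCategory.bijective_of_isIso (U.ι.appIso V).inv)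

/-- `O(n * d)` is invertible when `Proj` is covered. -/
theorem isInvertible_twist_of_covered {d : ℕ} (h : CoveredBy 𝒜 d ⊤) (n : ℤ) :
    PicF.IsInvertible (Twist.twist 𝒜 (n * d)) := fun x ↦ by
  obtain ⟨i, j, a, b, ha, hb, hij, hx⟩ := h x trivial
  exact ⟨_, hx, nonempty_restrict_iso ha hb hij n le_rfl⟩

variable {M : Type u} [AddCommGroup M] [Module R M] [Module A M] {ℳ : ℕ → Submodule R M}
  [SetLike.GradedSMul 𝒜 ℳ]

/-- `M(m)~ ⊗ O(n * d) ⟶ M(n * d + m)~` is bijective over `D₊(a * b)`. -/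
theorem bijective_actHom {d i j : ℕ} {a b : A} (ha : a ∈ 𝒜 i) (hb : b ∈ 𝒜 j) (hij : i = j + d)
    {n m l : ℤ} (h : n * d + m = l) {V : (Proj 𝒜).Opens} (hV : V ≤ Proj.basicOpen 𝒜 (a * b)) :
    Function.Bijective ((actHom (ℳ := ℳ) h).app V) := by
  have hb' := AmpleLib.tmul_gen_bijective (isGen_frame ha hb hij n hV) (GrTilde.tilde 𝒜 ℳ m)
    (le_refl V)
  refine (Function.Bijective.of_comp_iff _ hb').mp ?_
  have e : (actHom (ℳ := ℳ) h).app V ∘ (fun t : Γ(GrTilde.tilde 𝒜 ℳ m, V) ↦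
      Props.GenTensor.tmul t (res _ (le_refl V) (frame ha hb hij n hV))) =
      act h (frame ha hb hij n hV) := funext fun t ↦ by
    rw [Function.comp_apply, res_self, actHom_tmul]
  rw [e]
  exact bijective_act_frame ha hb hij n hV h

/-- `M(m)~ ⊗ O(n * d) ⟶ M(n * d + m)~` is an isomorphism when `Proj` is covered. -/
theorem isIso_actHom {d : ℕ} (hc : CoveredBy 𝒜 d ⊤) {n m l : ℤ} (h : n * d + m = l) :
    IsIso (actHom (ℳ := ℳ) (𝒜 := 𝒜) h) :=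
  LFFrame.isIso_of_locally_bijective _ fun x ↦ by
    obtain ⟨i, j, a, b, ha, hb, hij, hx⟩ := hc x trivial
    exact ⟨_, hx, fun V hV ↦ bijective_actHom ha hb hij h hV⟩

/-- The same after restriction to a covered open. -/
theorem isIso_restrict_actHom {d : ℕ} {U : (Proj 𝒜).Opens} (hU : CoveredBy 𝒜 d U) {n m l : ℤ}
    (h : n * d + m = l) :
    IsIso ((Scheme.Modules.restrictFunctor U.ι).map (actHom (ℳ := ℳ) (𝒜 := 𝒜) h)) :=
  LFFrame.isIso_of_locally_bijective _ fun x ↦ by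
    obtain ⟨i, j, a, b, ha, hb, hij, hx⟩ := hU x.1 x.2
    refine ⟨U.ι ⁻¹ᵁ Proj.basicOpen 𝒜 (a * b), hx, fun V hV ↦ ?_⟩
    exact bijective_actHom ha hb hij h (V := U.ι ''ᵁ V) fun y ⟨z, hz, e⟩ ↦ e ▸ hV hz

variable (𝒜) in
/-- `O(m) ⊗ O(n) ≅ O(m + n)` when degree one elements cover. -/
theorem nonempty_twist_tensor (hc : CoveredBy 𝒜 1 ⊤) (m n : ℤ) :
    Nonempty (CohB1.tensorMod (Twist.twist 𝒜 m) (Twist.twist 𝒜 n) ≅ Twist.twist 𝒜 (m + n)) := by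
  have h : n * ((1 : ℕ) : ℤ) + m = m + n := by push_cast; ring
  have := isIso_actHom (ℳ := 𝒜) (M := A) (𝒜 := 𝒜) hc h
  refine ⟨(eqToIso ?_) ≪≫ @asIso _ _ _ _ _ this⟩
  rw [Nat.cast_one, mul_one]
  rfl

variable (𝒜) in
theorem isInvertible_twist_one (hc : CoveredBy 𝒜 1 ⊤) (n : ℤ) :
    PicF.IsInvertible (Twist.twist 𝒜 n) := by
  simpa using isInvertible_twist_of_covered hc n

variable (𝒜) in
/-- `O(n) ≅ O(1)^{⊗ n}`. -/
theorem nonempty_twist_tensorPow (hc : CoveredBy 𝒜 1 ⊤) :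
    ∀ n : ℕ, Nonempty (Twist.twist 𝒜 (n : ℤ) ≅ CohB1.tensorPow (Twist.twist 𝒜 1) n)
  | 0 => ⟨(ProjTwist.twistZeroIso 𝒜).symm⟩
  | n + 1 => by
    obtain ⟨e⟩ := nonempty_twist_tensorPow hc n
    obtain ⟨φ⟩ := nonempty_twist_tensor 𝒜 hc (n : ℤ) 1
    exact ⟨eqToIso (by push_cast; rfl) ≪≫ φ.symm ≪≫ ProjTwist.tensCongr e (Iso.refl _)⟩

/-- The value of `f / 1` generates the degree `n * d` fractions iff `f` does not vanish. -/
theorem mem_basicOpen_iff_span {d i j : ℕ} {a b : A} (ha : a ∈ 𝒜 i) (hb : b ∈ 𝒜 j)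
    (hij : i = j + d) {p : ProjectiveSpectrum 𝒜} (hp : p ∈ Proj.basicOpen 𝒜 (a * b))
    {D : ℕ} (n : ℤ) (hD : (D : ℤ) = n * d) (f : 𝒜 D) :
    p ∈ ProjectiveSpectrum.basicOpen 𝒜 (f : A) ↔
      Submodule.span (Twist.A0 𝒜 p) {(Twist.globalOf 𝒜 f).1 ⟨p, trivial⟩} = ⊤ := by
  rw [Submodule.span_singleton_eq_top_iff]
  constructor
  · intro hf q
    obtain ⟨k, l, c, t, ht, hc, htl, hd, e⟩ := exists_mk_of_mem (ℳ := 𝒜) (M := A) q.2
    rcases hd with hd | rfl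
    · have hkl : k = l + D := by omega
      refine ⟨HomogeneousLocalization.mk ⟨k, ⟨c, hc⟩,
        ⟨t * f.1, hkl ▸ SetLike.mul_mem_graded htl f.2⟩, mul_nin ht hf⟩, Subtype.ext ?_⟩
      refine Eq.trans ?_ e.symm
      rw [Twist.coe_smul_val]
      refine (congrArg (· * _) (HomogeneousLocalization.val_mk _)).trans ?_
      refine (ProjTwist.mk_mul_mk).trans ?_
      refine Localization.mk_eq_mk_iff.mpr (Localization.r_iff_exists.mpr ⟨1, ?_⟩)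
      simp only [OneMemClass.coe_one, one_mul, Submonoid.coe_mul, mul_one]
      ring
    · refine ⟨0, Subtype.ext ?_⟩
      rw [e, GrModLib.mk, LocalizedModule.zero_mk]
      exact congrArg Subtype.val (zero_smul (Twist.A0 𝒜 p) ((Twist.globalOf 𝒜 f).1 ⟨p, trivial⟩))
  · intro h
    by_contra hf
    replace hf : (f : A) ∈ p.asHomogeneousIdeal := by
      by_contra h'
      exact hf h'
    have hmem : tval (frame ha hb hij n le_rfl) p hp ∈ Twist.twistAt 𝒜 (D : ℤ) p := by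
      rw [hD]
      exact ((show Twist.sectN (𝒜 := 𝒜) (n * d) (op (Proj.basicOpen 𝒜 (a * b))) from
        frame ha hb hij n le_rfl).1 ⟨p, hp⟩).2
    obtain ⟨c, hc⟩ := h ⟨_, hmem⟩
    have hu : IsUnit (tval (frame ha hb hij n le_rfl) p hp) :=
      .of_mul_eq_one _ (tval_frame_mul_neg' ha hb hij n le_rfl p hp)
    replace hc := congrArg Subtype.val hc
    rw [Twist.coe_smul_val] at hc
    have hu' := isUnit_of_mul_isUnit_right ((congrArg IsUnit hc).mpr hu)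
    have hval : ((Twist.globalOf 𝒜 f).1 ⟨p, trivial⟩).1 = algebraMap A (Twist.Loc 𝒜 p) f :=
      (Localization.mk_one_eq_algebraMap _)
    rw [hval, IsLocalization.AtPrime.isUnit_to_map_iff _ p.asHomogeneousIdeal.toIdeal] at hu'
    exact hu' hf

end Groth.Agent.ProjTilde
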