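import Groth.Agent.ProjTilde.Frac
import Groth.Agent.QCoh.Basic
import Groth.Prelude.Def_Coh

/-!
`M(n)~` is quasi-coherent.
-/

universe u

open CategoryTheory CategoryTheory.Limits AlgebraicGeometry TopologicalSpace Opposite

noncomputable section

namespace Groth.Agent.ProjTilde

open GrModLib DirectSum

variable {R A : Type u} [CommRing R] [CommRing A] [Algebra R A] {𝒜 : ℕ → Submodule R A}
  [GradedAlgebra 𝒜]

lemma pow_mem_deg {d : ℕ} {f : A} (hf : f ∈ 𝒜 d) (k : ℕ) : f ^ k ∈ 𝒜 (k * d) := by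
  simpa using SetLike.pow_mem_graded k hf

/-- Functions on `D₊(f)` are fractions `a / f ^ k`. -/
theorem exists_fracFun {d : ℕ} {f : A} (hf : f ∈ 𝒜 d) (hd : 0 < d)
    (c : Γ(Proj 𝒜, Proj.basicOpen 𝒜 f)) :
    ∃ (k : ℕ) (a : A) (ha : a ∈ 𝒜 (k * d)),
      c = ProjTwist.fracFun ha (pow_mem_deg hf k) (fun _ hx ↦ pow_nin hx k) := by
  obtain ⟨z, rfl⟩ :=
    (ConcreteCategory.bijective_of_isIso (Proj.basicOpenIsoAway 𝒜 f hf hd).hom).2 c
  obtain ⟨k, a, ha, rfl⟩ := HomogeneousLocalization.Away.mk_surjective 𝒜 hf z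
  refine ⟨k, a, by simpa using ha, ProjTwist.valAt_ext fun x hx ↦ ?_⟩
  refine Eq.trans ?_ (ProjTwist.valAt_fracFun _ _ _ x hx).symm
  refine (ProjectiveSpectrum.Proj.awayToSection_apply 𝒜 f _ ⟨x, hx⟩).trans ?_
  rw [HomogeneousLocalization.Away.val_mk, Localization.mk_eq_mk', IsLocalization.map_mk',
    Localization.mk_eq_mk']
  rfl

variable {M : Type u} [AddCommGroup M] [Module R M] [Module A M] {ℳ : ℕ → Submodule R M}
  [SetLike.GradedSMul 𝒜 ℳ]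

/-- The value at a point of a section of `M(n)~`. -/
abbrev sval {n : ℤ} {U : (Proj 𝒜).Opens} (s : Γ(GrTilde.tilde 𝒜 ℳ n, U))
    (x : ProjectiveSpectrum 𝒜) (hx : x ∈ U) : GrMod.LocMod 𝒜 (M := M) x :=
  ((show GrTilde.sect 𝒜 ℳ n (op U) from s).1 ⟨x, hx⟩).1

lemma sval_ext {n : ℤ} {U : (Proj 𝒜).Opens} {s t : Γ(GrTilde.tilde 𝒜 ℳ n, U)}
    (h : ∀ x hx, sval s x hx = sval t x hx) : s = t :=
  Subtype.ext (funext fun x ↦ Subtype.ext (h x.1 x.2))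

lemma sval_smul {n : ℤ} {U : (Proj 𝒜).Opens} (c : Γ(Proj 𝒜, U))
    (s : Γ(GrTilde.tilde 𝒜 ℳ n, U)) (x : ProjectiveSpectrum 𝒜) (hx : x ∈ U) :
    sval (c • s) x hx = ProjTwist.valAt c x hx • sval s x hx :=
  GrTilde.coe_smul_val n x _ _

variable [DirectSum.Decomposition ℳ]

/-- The localizing property of `M(n)~` on `D₊(f)`. -/
theorem isLocalizingAt_tilde {d : ℕ} {f : A} (hf : f ∈ 𝒜 d) (hd : 0 < d) (n : ℤ)
    (c : Γ(Proj 𝒜, Proj.basicOpen 𝒜 f)) :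
    QCoh.IsLocalizingAt (GrTilde.tilde 𝒜 ℳ n) c := by
  obtain ⟨k, a, ha, rfl⟩ := exists_fracFun hf hd c
  set c := ProjTwist.fracFun ha (pow_mem_deg hf k)
    (fun _ hx ↦ pow_nin hx k : Proj.basicOpen 𝒜 f ≤ Proj.basicOpen 𝒜 (f ^ k))
  have hg : a * f ∈ 𝒜 (k * d + d) := SetLike.mul_mem_graded ha hf
  have hbasic : ∀ x : ProjectiveSpectrum 𝒜,
      x ∈ (Proj 𝒜).basicOpen c ↔ a * f ∉ x.asHomogeneousIdeal := fun x ↦ by
    rw [ProjTwist.basicOpen_fracFun]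
    exact ⟨fun h ↦ mul_nin h.2 h.1,
      fun h ↦ ⟨fun h' ↦ h (Ideal.mul_mem_left _ _ h'), fun h' ↦ h (Ideal.mul_mem_right _ _ h')⟩⟩
  have hpow : ∀ (N : ℕ) (x : ProjectiveSpectrum 𝒜) (hx : x ∈ Proj.basicOpen 𝒜 f),
      ProjTwist.valAt (c ^ N) x hx =
        Localization.mk (a ^ N) ⟨(f ^ k) ^ N, pow_nin (pow_nin hx k) N⟩ := fun N x hx ↦ by
    rw [ProjTwist.valAt_pow, ProjTwist.valAt_fracFun, Localization.mk_pow]
    rfl
  refine ⟨fun s ↦ ?_, fun t ht ↦ ?_⟩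
  · obtain ⟨e, i, m, hm, hi, hval⟩ := exists_frac (ℳ := ℳ) hg (by omega) n
      (U := (Proj 𝒜).basicOpen c) (fun x hx ↦ (hbasic x).mpr hx)
      (show GrMod.sect 𝒜 ℳ n (op ((Proj 𝒜).basicOpen c)) from s)
    let t : GrMod.sect 𝒜 ℳ n (op (Proj.basicOpen 𝒜 f)) :=
      fracSec hm (pow_mem_deg hf (k * e + e)) n (by push_cast at hi ⊢; rw [hi]; ring)
        (fun x ↦ pow_nin x.2 _)
    refine ⟨e, t, sval_ext fun x hx ↦ ?_⟩
    refine Eq.trans ?_ (sval_smul _ s x hx).symm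
    have hx' := (hbasic x).mp hx
    have hxf : x ∈ Proj.basicOpen 𝒜 f := (Proj 𝒜).basicOpen_le c hx
    have h1 : ProjTwist.valAt
        ((QCoh.rres ((Proj 𝒜).basicOpen_le c) c) ^ e) x hx =
        ProjTwist.valAt (c ^ e) x hxf := by
      rw [← map_pow]
      rfl
    refine Eq.trans ?_ (congrArg₂ (· • ·) (h1.trans (hpow e x hxf)).symm (hval x hx').symm)
    change GrModLib.mk x m (f ^ (k * e + e)) _ = _
    refine Eq.trans ?_ (LocalizedModule.mk_smul_mk _ _ _ _).symm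
    refine mk_eq_mk_iff.mpr ⟨1, GrMod.one_nin x, ?_⟩
    rw [one_smul, sub_eq_zero, ← mul_smul]
    congr 1
    simp only [← pow_mul, mul_pow, pow_add, Submonoid.coe_mul]
    ring
  · obtain ⟨e, i, m, hm, hi, hval⟩ := exists_frac (ℳ := ℳ) hf hd n
      (U := Proj.basicOpen 𝒜 f) (fun _ hx ↦ hx)
      (show GrMod.sect 𝒜 ℳ n (op (Proj.basicOpen 𝒜 f)) from t)
    obtain ⟨N, hN⟩ := GrModLib.exists_pow_smul_eq_zero (ℳ := ℳ) hm hg (by omega) fun x hx ↦ by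
      refine (mk_eq_zero_iff (s := f ^ e)
        (hs := pow_nin (fun h ↦ hx (Ideal.mul_mem_left _ _ h)) e)).mp ?_
      refine (hval x (fun h ↦ hx (Ideal.mul_mem_left _ _ h))).symm.trans ?_
      exact congrArg (fun s ↦ sval s x ((hbasic x).mpr hx)) ht
    refine ⟨N, sval_ext fun x hx ↦ ?_⟩
    refine (sval_smul _ t x hx).trans ?_
    refine (congrArg₂ (· • ·) (hpow N x hx) (hval x hx)).trans ?_
    refine (LocalizedModule.mk_smul_mk _ _ _ _).trans ?_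
    refine mk_eq_zero_iff.mpr ⟨f ^ N, pow_nin hx N, ?_⟩
    rwa [← mul_smul, mul_comm, ← mul_pow]

/-- `M(n)~` is quasi-coherent. -/
theorem isQuasicoherent_tilde (n : ℤ) : (GrTilde.tilde 𝒜 ℳ n).IsQuasicoherent := by
  refine QCoh.isQuasicoherent_of_forall_exists_isLocalizingAt _ fun x ↦ ?_
  obtain ⟨d, f, hd, hf, hfx⟩ : ∃ (d : ℕ) (f : A), 0 < d ∧ f ∈ 𝒜 d ∧
      f ∉ (show ProjectiveSpectrum 𝒜 from x).asHomogeneousIdeal := by
    by_contra! h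
    exact (show ProjectiveSpectrum 𝒜 from x).not_irrelevant_le
      ((HomogeneousIdeal.irrelevant_le _).mpr fun i hi a ha ↦ h i a hi ha)
  exact ⟨_, Proj.isAffineOpen_basicOpen 𝒜 f hf hd, hfx, isLocalizingAt_tilde hf hd n⟩

omit [DirectSum.Decomposition ℳ] in
/-- `O(n)` is the module of the graded module `A`. -/
theorem twist_eq_tilde (n : ℤ) : Twist.twist 𝒜 n = GrTilde.tilde 𝒜 𝒜 n := rfl

theorem isQuasicoherent_twist (n : ℤ) : (Twist.twist 𝒜 n).IsQuasicoherent := by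
  rw [twist_eq_tilde]
  exact isQuasicoherent_tilde n

end Groth.Agent.ProjTilde
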