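import Groth.Agent.LFFrame.Basic
import Groth.Agent.QCoh.Basic

/-!
A morphism of quasi-coherent modules bijective on the sections over an affine cover is an isomorphism.
-/

universe u w

open CategoryTheory AlgebraicGeometry TopologicalSpace Opposite

noncomputable section

namespace Groth.Agent.ProjTilde

open Groth.Agent.QCoh

variable {X : Scheme.{u}} {M N : X.Modules} [M.IsQuasicoherent] [N.IsQuasicoherent] (φ : M ⟶ N)

/-- Bijectivity on an affine open passes to its basic opens. -/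
theorem bijective_app_basicOpen {U : X.Opens} (hU : IsAffineOpen U)
    (h : Function.Bijective (φ.app U)) (c : Γ(X, U)) :
    Function.Bijective (φ.app (X.basicOpen c)) := by
  have hu : ∀ n : ℕ, IsUnit (rres (X.basicOpen_le c) c ^ n) := fun n ↦
    (RingedSpace.isUnit_res_basicOpen X.toRingedSpace c).pow n
  constructor
  · rw [injective_iff_map_eq_zero]
    intro s hs
    obtain ⟨n, t, ht⟩ := (isLocalizingAt M hU c).surj s
    obtain ⟨k, hk⟩ := (isLocalizingAt N hU c).eq_zero (φ.app U t) (by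
      rw [← app_res, ht, Scheme.Modules.Hom.app_smul, hs, smul_zero])
    rw [← Scheme.Modules.Hom.app_smul] at hk
    have h0 : c ^ k • t = 0 := h.1 (hk.trans (map_zero _).symm)
    have h1 := congrArg (res M (X.basicOpen_le c)) h0
    rw [res_smul, map_pow, ht, map_zero, smul_smul, ← pow_add] at h1
    exact (hu _).smul_eq_zero.mp h1
  · intro y
    obtain ⟨n, t, ht⟩ := (isLocalizingAt N hU c).surj y
    obtain ⟨s, rfl⟩ := h.2 t
    obtain ⟨w, hw⟩ := hu n
    refine ⟨(↑w⁻¹ : Γ(X, X.basicOpen c)) • res M (X.basicOpen_le c) s, ?_⟩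
    rw [Scheme.Modules.Hom.app_smul, app_res, ht, ← hw, smul_smul, Units.inv_mul, one_smul]

/-- Bijectivity on an affine cover gives an isomorphism. -/
theorem isIso_of_bijective_affine {ι : Type w} (V : ι → X.Opens) (hV : ∀ i, IsAffineOpen (V i))
    (hcov : ⊤ ≤ iSup V) (h : ∀ i, Function.Bijective (φ.app (V i))) : IsIso φ := by
  refine LFFrame.isIso_of_locally_bijective φ fun x ↦ ?_
  obtain ⟨i, hi⟩ := Opens.mem_iSup.mp (hcov (trivial : x ∈ (⊤ : X.Opens)))
  refine ⟨V i, hi, fun W hW ↦ ?_⟩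
  choose c hcW hxc using fun y : W ↦ (hV i).exists_basicOpen_le (V := W) ⟨y.1, y.2⟩ (hW y.2)
  have hcov' : W ≤ ⨆ y, X.basicOpen (c y) := fun y hy ↦ Opens.mem_iSup.mpr ⟨⟨y, hy⟩, hxc _⟩
  have hb := fun y ↦ bijective_app_basicOpen φ (hV i) (h i) (c y)
  have hinj : ∀ (U : X.Opens), U ≤ W → Function.Injective (φ.app U) := fun U hU ↦ by
    rw [injective_iff_map_eq_zero]
    intro s hs
    choose c' hc' hxc' using fun y : U ↦
      (hV i).exists_basicOpen_le (V := U) ⟨y.1, y.2⟩ (hW (hU y.2))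
    refine eq_zero_of_locally_eq_zero M hc'
      (fun y hy ↦ Opens.mem_iSup.mpr ⟨⟨y, hy⟩, hxc' _⟩) s fun y ↦ ?_
    refine (bijective_app_basicOpen φ (hV i) (h i) (c' y)).1 ?_
    rw [app_res, hs, map_zero, map_zero]
  refine ⟨hinj W le_rfl, fun t ↦ ?_⟩
  choose s hs using fun y ↦ (hb y).2 (res N (hcW y) t)
  obtain ⟨σ, hσ⟩ := exists_glue M hcW hcov' s fun y z ↦ by
    refine hinj _ (inf_le_left.trans (hcW y)) ?_
    rw [app_res, app_res, hs, hs, res_res, res_res]
  exact ⟨σ, eq_of_locally_eq N hcW hcov' _ _ fun y ↦ by rw [← app_res, hσ, hs]⟩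

end Groth.Agent.ProjTilde
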