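import Groth.Prelude.Def_GrTwist
import Groth.Agent.RelProjLib.ProjMap
import Mathlib.AlgebraicGeometry.Modules.Sheaf

/-!
# When the twisting sheaves pull back to the twisting sheaves along an open immersion `Proj.map`
-/

set_option autoImplicit false
universe u

open CategoryTheory AlgebraicGeometry TopologicalSpace Opposite
open scoped HomogeneousIdeal

noncomputable section

namespace Groth.Agent.ProjTilde

/-- The adjunct of a map into a direct image along an open immersion. -/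
theorem isIso_adjunct {X Y : Scheme.{u}} (r : X ⟶ Y) [IsOpenImmersion r] {M : Y.Modules} {N : X.Modules}
    (φ : M ⟶ (Scheme.Modules.pushforward r).obj N)
    (h : ∀ W ≤ r.opensRange, Function.Bijective (φ.app W)) :
    IsIso (((Scheme.Modules.pullbackPushforwardAdjunction r).homEquiv _ _).symm φ) := by
  have hr : IsIso ((Scheme.Modules.restrictFunctor r).map φ) := by
    rw [Scheme.Modules.Hom.isIso_iff_isIso_app]
    intro V
    rw [ConcreteCategory.isIso_iff_bijective]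
    exact h (r ''ᵁ V) (Set.image_subset_range _ _)
  have : IsIso ((Scheme.Modules.pullback r).map φ) :=
    (NatIso.isIso_map_iff (Scheme.Modules.restrictFunctorIsoPullback r) φ).1 hr
  have : IsIso (Scheme.Modules.restrictAdjunction r).counit := NatIso.isIso_of_isIso_app _
  let hff := (Scheme.Modules.restrictAdjunction r).fullyFaithfulROfIsIsoCounit
  have := hff.full
  have := hff.faithful
  rw [Adjunction.homEquiv_counit]
  infer_instance

variable {A B σ τ : Type u} [CommRing A] [SetLike σ A] [AddSubgroupClass σ A] {𝒜 : ℕ → σ} [GradedRing 𝒜]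
  [CommRing B] [SetLike τ B] [AddSubgroupClass τ B] {ℬ : ℕ → τ} [GradedRing ℬ]
  (ψ : 𝒜 →+*ᵍ ℬ) (hψ : ℬ₊ ≤ 𝒜₊.map ψ) (n : ℤ)

/-- Sections of twists lift along a morphism of `Proj`s under which fractions lift. -/
theorem bijective_comap [IsOpenImmersion (Proj.map ψ hψ)]
    (hinj : ∀ y : ProjectiveSpectrum ℬ, Function.Injective (GrTwist.locMap ψ hψ y))
    (hfr : ∀ (y : ProjectiveSpectrum ℬ) (i j : ℕ) (b : ℬ i) (t : ℬ j), (t : B) ∉ y.asHomogeneousIdeal →
      ((i : ℤ) = j + n ∨ (b : B) = 0) → ∃ (i' j' : ℕ) (a : 𝒜 i') (s : 𝒜 j'),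
        ψ (s : A) ∉ y.asHomogeneousIdeal ∧ ((i' : ℤ) = j' + n ∨ (a : A) = 0) ∧
        ψ (s : A) * (b : B) = (t : B) * ψ (a : A))
    {W : (Proj 𝒜).Opens} (hW : W ≤ (Proj.map ψ hψ).opensRange) :
    Function.Bijective ((GrTwist.comap ψ hψ n).app W) := by
  classical
  set r := Proj.map ψ hψ with hr
  have hinjr : Function.Injective r.base := r.isOpenEmbedding.injective
  constructor
  · intro s s' hss
    refine Subtype.ext (funext fun x => Subtype.ext ?_)
    obtain ⟨⟨p, hp⟩⟩ : Nonempty {p : Proj ℬ // r p = x.1} := ⟨⟨_, (hW x.2).choose_spec⟩⟩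
    obtain ⟨x, hx⟩ := x
    subst hp
    have := congrArg (fun q : GrTwist.sectN (𝒜 := ℬ) n (op (r ⁻¹ᵁ W)) =>
      ((q.1 ⟨p, hx⟩ : GrTwist.twistAt ℬ n p) : GrTwist.Loc ℬ p)) hss
    exact hinj p this
  · intro t
    let t' : GrTwist.sectN (𝒜 := ℬ) n (op (r ⁻¹ᵁ W)) := t
    have key : ∀ (p : Proj ℬ) (hp : r p ∈ W), ∃ (i j : ℕ) (a : 𝒜 i) (s : 𝒜 j) (V : (Proj ℬ).Opens),
        p ∈ V ∧ ((i : ℤ) = j + n ∨ (a : A) = 0) ∧ ∀ (q : Proj ℬ) (hqV : q ∈ V),
          ∃ (hqW : r q ∈ W) (hs : ψ (s : A) ∉ q.asHomogeneousIdeal),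
            (t'.1 ⟨q, hqW⟩ : GrTwist.Loc ℬ q) = Localization.mk (ψ (a : A)) ⟨ψ (s : A), hs⟩ := by
      intro p hp
      obtain ⟨V, hpV, hVW, i, j, b, u, hu, hij, hval⟩ := t'.2 ⟨p, hp⟩
      obtain ⟨i', j', a, s, hs, hij', heq⟩ := hfr p i j b u (hu ⟨p, hpV⟩) hij
      refine ⟨i', j', a, s, V ⊓ Proj.basicOpen ℬ (ψ (s : A)), ⟨hpV, hs⟩, hij', fun q hq =>
        ⟨hVW.le hq.1, hq.2, ?_⟩⟩
      refine (hval ⟨q, hq.1⟩).trans ?_
      rw [Localization.mk_eq_mk_iff, Localization.r_iff_exists]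
      exact ⟨1, by simpa using heq⟩
    choose P hP using fun x : W => show ∃ p : Proj ℬ, r p = x.1 from hW x.2
    have hP' : ∀ x : W, r (P x) ∈ W := fun x => (hP x).symm ▸ x.2
    have hval : ∀ x : W, ∃ v : GrTwist.twistAt 𝒜 n x.1, ∀ (p : Proj ℬ) (hp : r p = x.1) (hpW : r p ∈ W),
        GrTwist.locMap ψ hψ p (hp ▸ v : GrTwist.twistAt 𝒜 n (r p)).1 = (t'.1 ⟨p, hpW⟩).1 := by
      intro x
      obtain ⟨i, j, a, s, V, hpV, hij, hv⟩ := key (P x) (hP' x)
      obtain ⟨hqW, hs, he⟩ := hv _ hpV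
      obtain ⟨x, hx⟩ := x
      have hPx := hP ⟨x, hx⟩
      revert hqW hs he hpV
      generalize P ⟨x, hx⟩ = p at hPx ⊢
      intro hpV hqW hs he
      subst hPx
      have hmem : Localization.mk (a : A) ⟨(s : A), hs⟩ ∈ GrTwist.twistAt 𝒜 n (r p) := by
        rcases hij with hij | ha
        · exact Submodule.subset_span ⟨i, j, a, s, hs, hij, rfl⟩
        · rw [ha, Localization.mk_zero]; exact zero_mem _
      refine ⟨⟨_, hmem⟩, fun q hq hqW' => ?_⟩
      obtain rfl : q = p := hinjr hq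
      exact (GrTwist.locMap_mk ψ hψ q _ _).trans he.symm
    choose v hv using hval
    have hloc : (GrTwist.isLocFracN 𝒜 n).pred v := by
      intro x
      obtain ⟨i, j, a, s, V, hpV, hij, hV⟩ := key (P x) (hP' x)
      refine ⟨W ⊓ r ''ᵁ V, ⟨x.2, P x, hpV, hP x⟩, homOfLE inf_le_left, i, j, a, s, fun z => ?_, hij, fun z => ?_⟩
      · obtain ⟨q, hqV, hq⟩ := z.2.2
        obtain ⟨-, hs, -⟩ := hV q hqV
        intro hmem
        exact hs (show (s : A) ∈ (r q).asHomogeneousIdeal from hq ▸ hmem)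
      · obtain ⟨z, hzW, q, hqV, rfl⟩ := z
        obtain ⟨hqW, hs, he⟩ := hV q hqV
        have h1 := (hv ⟨r q, hzW⟩ q rfl hqW).trans he
        exact hinj q (h1.trans (GrTwist.locMap_mk ψ hψ q (a : A) ⟨(s : A), hs⟩).symm)
    refine ⟨(⟨v, hloc⟩ : GrTwist.sectN (𝒜 := 𝒜) n (op W)), Subtype.ext (funext fun p => Subtype.ext ?_)⟩
    exact hv ⟨r p.1, p.2⟩ p.1 rfl p.2

end Groth.Agent.ProjTilde
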