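import Groth.Prelude.Def_GrMod2
import Groth.Agent.GrModLib.Shift
import Groth.Agent.ProjTwist.Ratio

/-!
The degree `n` fractions at a point are single fractions; germs of `M(n)~` are fractions.
-/

universe u

open CategoryTheory AlgebraicGeometry TopologicalSpace Opposite

noncomputable section

namespace Groth.Agent.ProjTilde

open GrModLib DirectSum

variable {R A : Type u} [CommRing R] [CommRing A] [Algebra R A] {𝒜 : ℕ → Submodule R A}
  [GradedAlgebra 𝒜]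
variable {M : Type u} [AddCommGroup M] [Module R M] [Module A M] {ℳ : ℕ → Submodule R M}
  [SetLike.GradedSMul 𝒜 ℳ]

lemma mul_nin {x : ProjectiveSpectrum 𝒜} {s t : A} (hs : s ∉ x.asHomogeneousIdeal)
    (ht : t ∉ x.asHomogeneousIdeal) : s * t ∉ x.asHomogeneousIdeal :=
  fun h ↦ (x.isPrime.mem_or_mem h).elim hs ht

/-- Every degree `n` fraction at a point is a single fraction, or zero. -/
theorem exists_mk_of_mem {n : ℤ} {x : ProjectiveSpectrum 𝒜} {q : GrTilde.LocMod 𝒜 (M := M) x}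
    (hq : q ∈ GrTilde.tildeAt 𝒜 ℳ n x) :
    ∃ (i j : ℕ) (m : M) (s : A) (hs : s ∉ x.asHomogeneousIdeal), m ∈ ℳ i ∧ s ∈ 𝒜 j ∧
      ((i : ℤ) = j + n ∨ m = 0) ∧ q = GrModLib.mk x m s hs := by
  induction hq using Submodule.span_induction with
  | mem q h =>
    obtain ⟨i, j, m, s, hs, hij, rfl⟩ := h
    exact ⟨i, j, m, s, hs, m.2, s.2, Or.inl hij, rfl⟩
  | zero =>
    exact ⟨0, 0, 0, 1, GrMod.one_nin x, zero_mem _, SetLike.GradedOne.one_mem, Or.inr rfl,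
      (LocalizedModule.zero_mk _).symm⟩
  | add q q' _ _ h h' =>
    obtain ⟨i, j, m, s, hs, hm, hsj, hd, rfl⟩ := h
    obtain ⟨i', j', m', t, ht, hm', htj, hd', rfl⟩ := h'
    rcases hd with hd | rfl
    · rcases hd' with hd' | rfl
      · have e : j' + i = j + i' := by omega
        refine ⟨j + i', j + j', t • m + s • m', s * t, mul_nin hs ht,
          add_mem (e ▸ SetLike.GradedSMul.smul_mem htj hm) (SetLike.GradedSMul.smul_mem hsj hm'),
          SetLike.mul_mem_graded hsj htj, Or.inl (by push_cast; omega),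
          LocalizedModule.mk_add_mk ..⟩
      · exact ⟨i, j, m, s, hs, hm, hsj, Or.inl hd, by rw [GrModLib.mk, GrModLib.mk, LocalizedModule.zero_mk, add_zero]⟩
    · exact ⟨i', j', m', t, ht, hm', htj, hd', by rw [GrModLib.mk, GrModLib.mk, LocalizedModule.zero_mk, zero_add]⟩
  | smul c q _ h =>
    obtain ⟨i, j, m, s, hs, hm, hsj, hd, rfl⟩ := h
    obtain ⟨⟨k, a, t, ht⟩, rfl⟩ := Quotient.mk''_surjective c
    refine ⟨k + i, k + j, (a : A) • m, (t : A) * s, mul_nin ht hs,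
      SetLike.GradedSMul.smul_mem a.2 hm, SetLike.mul_mem_graded t.2 hsj, ?_, ?_⟩
    · rcases hd with hd | rfl
      · exact Or.inl (by push_cast; omega)
      · exact Or.inr (smul_zero _)
    · rw [GrTilde.a0_smul_def]
      exact LocalizedModule.mk_smul_mk _ _ _ _

variable [DirectSum.Decomposition ℳ]

/-- Two fractions equal at a point are equal near it. -/
theorem exists_nhd_of_mk_eq {n : ℤ} {p : ProjectiveSpectrum 𝒜} {i j i' j' : ℕ} {m m' : M} {s s' : A}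
    (hm : m ∈ ℳ i) (hs : s ∈ 𝒜 j) (hm' : m' ∈ ℳ i') (hs' : s' ∈ 𝒜 j')
    (hd : (i : ℤ) = j + n ∨ m = 0) (hd' : (i' : ℤ) = j' + n ∨ m' = 0)
    {hsp : s ∉ p.asHomogeneousIdeal} {hsp' : s' ∉ p.asHomogeneousIdeal}
    (e : GrModLib.mk p m s hsp = GrModLib.mk p m' s' hsp') :
    ∃ (k : ℕ) (c : A), c ∈ 𝒜 k ∧ c ∉ p.asHomogeneousIdeal ∧
      ∀ (y : ProjectiveSpectrum 𝒜) (hy : s ∉ y.asHomogeneousIdeal)
        (hy' : s' ∉ y.asHomogeneousIdeal), c ∉ y.asHomogeneousIdeal →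
        GrModLib.mk y m s hy = GrModLib.mk y m' s' hy' := by
  obtain ⟨c, hc, hce⟩ := mk_eq_mk_iff.mp e
  have hw : ∃ D, s' • m - s • m' ∈ ℳ D := by
    rcases hd with hd | rfl
    · rcases hd' with hd' | rfl
      · have e1 : j + i' = j' + i := by omega
        exact ⟨j' + i, sub_mem (SetLike.GradedSMul.smul_mem hs' hm)
          (e1 ▸ SetLike.GradedSMul.smul_mem hs hm')⟩
      · refine ⟨j' + i, ?_⟩
        rw [smul_zero, sub_zero]
        exact SetLike.GradedSMul.smul_mem hs' hm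
    · refine ⟨j + i', ?_⟩
      rw [smul_zero, zero_sub]
      exact neg_mem (SetLike.GradedSMul.smul_mem hs hm')
  obtain ⟨D, hw⟩ := hw
  obtain ⟨k, hk⟩ : ∃ k, (decompose 𝒜 c k : A) ∉ p.asHomogeneousIdeal := by
    by_contra! hall
    classical
    refine hc ?_
    rw [← DirectSum.sum_support_decompose 𝒜 c]
    exact Ideal.sum_mem _ fun k _ ↦ hall k
  refine ⟨k, _, SetLike.coe_mem _, hk, fun y hy hy' hcy ↦ mk_eq_mk_iff.mpr ⟨_, hcy, ?_⟩⟩
  exact GrModLib.mem_annOf.mp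
    ((isHomogeneous_annOf (𝒜 := 𝒜) hw) k (GrModLib.mem_annOf.mpr hce))

/-- The stalk of `M(n)~` at `p` is the module of degree `n` fractions at `p`. -/
theorem stalkToFiber_bijective (n : ℤ) (p : ProjectiveSpectrum 𝒜) :
    Function.Bijective (TopCat.stalkToFiber (GrTilde.isLocFrac 𝒜 ℳ n) p) := by
  constructor
  · refine TopCat.stalkToFiber_injective _ _ fun U V fU hU fV hV e ↦ ?_
    obtain ⟨U', mU, iU, i, j, ⟨m, hm⟩, ⟨s, hs⟩, ninU, hd, wU⟩ := hU ⟨p, U.2⟩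
    obtain ⟨V', mV, iV, i', j', ⟨m', hm'⟩, ⟨s', hs'⟩, ninV, hd', wV⟩ := hV ⟨p, V.2⟩
    have e1 : GrModLib.mk p m s (ninU ⟨p, mU⟩) = GrModLib.mk p m' s' (ninV ⟨p, mV⟩) :=
      ((wU ⟨p, mU⟩).symm.trans (congrArg Subtype.val e)).trans (wV ⟨p, mV⟩)
    obtain ⟨k, c, -, hcp, hc⟩ := exists_nhd_of_mk_eq hm hs hm' hs' hd hd' e1
    refine ⟨(⟨U' ⊓ V' ⊓ ProjectiveSpectrum.basicOpen 𝒜 c,
      ⟨⟨mU, mV⟩, (ProjectiveSpectrum.mem_basicOpen 𝒜 c p).mpr hcp⟩⟩ :
        OpenNhds (show ProjectiveSpectrum.top 𝒜 from p)),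
      homOfLE (fun y hy ↦ iU.le hy.1.1),
      homOfLE (fun y hy ↦ iV.le hy.1.2), fun w ↦ Subtype.ext ?_⟩
    refine (wU ⟨w.1, w.2.1.1⟩).trans ((hc w.1 (ninU ⟨w.1, w.2.1.1⟩) (ninV ⟨w.1, w.2.1.2⟩)
      ((ProjectiveSpectrum.mem_basicOpen 𝒜 c w.1).mp w.2.2)).trans (wV ⟨w.1, w.2.1.2⟩).symm)
  · refine TopCat.stalkToFiber_surjective _ _ fun t ↦ ?_
    obtain ⟨i, j, m, s, hs, hm, hsj, hd, e⟩ := exists_mk_of_mem t.2
    rcases hd with hd | rfl
    · let W : OpenNhds (show ProjectiveSpectrum.top 𝒜 from p) :=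
        ⟨ProjectiveSpectrum.basicOpen 𝒜 s, (ProjectiveSpectrum.mem_basicOpen 𝒜 s p).mpr hs⟩
      let f : GrTilde.sect 𝒜 ℳ n (op W.1) := fracSec (ℳ := ℳ) hm hsj n hd
        (fun x ↦ (ProjectiveSpectrum.mem_basicOpen 𝒜 s x.1).mp x.2)
      exact ⟨W, f.1, f.2, Subtype.ext e.symm⟩
    · refine ⟨⟨⊤, trivial⟩, 0, GrTilde.zero_mem' n (op ⊤), Subtype.ext ?_⟩
      rw [e, GrModLib.mk, LocalizedModule.zero_mk]
      rfl

end Groth.Agent.ProjTilde
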