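import Groth.Agent.ProjTilde.QC
import Groth.Agent.AmpleLib.Twist
import Groth.Agent.ProjTwist.Zero

/-!
The action of sections of `O(e)` on sections of `M(m)~`, and the frames `(a / b) ^ n` of `O(n * d)`.
-/

universe u

open CategoryTheory CategoryTheory.Limits AlgebraicGeometry TopologicalSpace Opposite
open scoped TensorProduct

noncomputable section

namespace Groth.Agent.ProjTilde

open GrModLib DirectSum Groth.Agent.QCoh Groth.Agent.Props.GenLocus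

variable {R A : Type u} [CommRing R] [CommRing A] [Algebra R A] {𝒜 : ℕ → Submodule R A}
  [GradedAlgebra 𝒜]

/-- The value at a point of a section of `O(n)`. -/
abbrev tval {n : ℤ} {U : (Proj 𝒜).Opens} (s : Γ(Twist.twist 𝒜 n, U))
    (x : ProjectiveSpectrum 𝒜) (hx : x ∈ U) : Twist.Loc 𝒜 x :=
  ((show Twist.sectN (𝒜 := 𝒜) n (op U) from s).1 ⟨x, hx⟩).1

lemma tval_ext {n : ℤ} {U : (Proj 𝒜).Opens} {s t : Γ(Twist.twist 𝒜 n, U)}
    (h : ∀ x hx, tval s x hx = tval t x hx) : s = t :=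
  ProjTwist.sectN_ext fun x ↦ h x.1 x.2

lemma tval_smul {n : ℤ} {U : (Proj 𝒜).Opens} (c : Γ(Proj 𝒜, U))
    (s : Γ(Twist.twist 𝒜 n, U)) (x : ProjectiveSpectrum 𝒜) (hx : x ∈ U) :
    tval (c • s) x hx = ProjTwist.valAt c x hx * tval s x hx :=
  ProjTwist.smul_coe _ _ _

section Module

variable {M : Type u} [AddCommGroup M] [Module R M] [Module A M] {ℳ : ℕ → Submodule R M}
  [SetLike.GradedSMul 𝒜 ℳ]

/-- A degree `e` fraction times a degree `m` fraction has degree `l = e + m`. -/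
lemma smul_mem_tildeAt {e m l : ℤ} (h : e + m = l) {x : ProjectiveSpectrum 𝒜}
    {p : Twist.Loc 𝒜 x} {q : GrTilde.LocMod 𝒜 (M := M) x}
    (hp : p ∈ Twist.twistAt 𝒜 e x) (hq : q ∈ GrTilde.tildeAt 𝒜 ℳ m x) :
    p • q ∈ GrTilde.tildeAt 𝒜 ℳ l x := by
  obtain ⟨i, j, a, s, hs, ha, hsj, hd, rfl⟩ := exists_mk_of_mem (ℳ := 𝒜) (M := A) hp
  obtain ⟨i', j', v, t, ht, hv, htj, hd', rfl⟩ := exists_mk_of_mem hq
  have e1 : (GrModLib.mk x a s hs : Twist.Loc 𝒜 x) • GrModLib.mk x v t ht =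
      GrModLib.mk x (a • v) (s * t) (mul_nin hs ht) := LocalizedModule.mk_smul_mk _ _ _ _
  refine e1.symm ▸ ?_
  rcases hd with hd | rfl
  · rcases hd' with hd' | rfl
    · exact Submodule.subset_span ⟨i + i', j + j', ⟨_, SetLike.GradedSMul.smul_mem ha hv⟩,
        ⟨_, SetLike.mul_mem_graded hsj htj⟩, mul_nin hs ht, by push_cast; omega, rfl⟩
    · rw [smul_zero, GrModLib.mk, LocalizedModule.zero_mk]; exact zero_mem _
  · rw [zero_smul, GrModLib.mk, LocalizedModule.zero_mk]; exact zero_mem _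

/-- The product of a section of `O(e)` and a section of `M(m)~`. -/
def act {e m l : ℤ} (h : e + m = l) {U : (Proj 𝒜).Opens} (s : Γ(Twist.twist 𝒜 e, U))
    (t : Γ(GrTilde.tilde 𝒜 ℳ m, U)) : Γ(GrTilde.tilde 𝒜 ℳ l, U) :=
  show GrTilde.sect 𝒜 ℳ l (op U) from
  ⟨fun x ↦ ⟨tval s x.1 x.2 • sval t x.1 x.2,
    smul_mem_tildeAt h ((show Twist.sectN (𝒜 := 𝒜) e (op U) from s).1 x).2
      ((show GrTilde.sect 𝒜 ℳ m (op U) from t).1 x).2⟩, fun x ↦ by
    obtain ⟨V, hV, iV, i, j, a, p, hp, ha, wa⟩ := (show Twist.sectN (𝒜 := 𝒜) e (op U) from s).2 x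
    obtain ⟨W, hW, iW, i', j', b, q, hq, hb, wb⟩ := (show GrTilde.sect 𝒜 ℳ m (op U) from t).2 x
    refine ⟨V ⊓ W, ⟨hV, hW⟩, Opens.infLELeft V W ≫ iV, i + i', j + j',
      ⟨_, SetLike.GradedSMul.smul_mem a.2 b.2⟩, ⟨_, SetLike.mul_mem_graded p.2 q.2⟩,
      fun y ↦ mul_nin (hp ⟨y.1, y.2.1⟩) (hq ⟨y.1, y.2.2⟩), ?_, fun y ↦ ?_⟩
    · rcases ha with ha | ha
      · rcases hb with hb | hb
        · exact Or.inl (by push_cast; omega)
        · exact Or.inr (by simp [hb])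
      · exact Or.inr (by simp [ha])
    · exact (congrArg₂ (· • ·) (wa ⟨y.1, y.2.1⟩) (wb ⟨y.1, y.2.2⟩)).trans
        (LocalizedModule.mk_smul_mk _ _ _ _)⟩

lemma sval_act {e m l : ℤ} (h : e + m = l) {U : (Proj 𝒜).Opens} (s : Γ(Twist.twist 𝒜 e, U))
    (t : Γ(GrTilde.tilde 𝒜 ℳ m, U)) (x : ProjectiveSpectrum 𝒜) (hx : x ∈ U) :
    sval (act h s t) x hx = tval s x hx • sval t x hx := rfl

lemma act_act_cancel {e e' m l : ℤ} (h : e + m = l) (h' : e' + l = m) {U : (Proj 𝒜).Opens}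
    (s : Γ(Twist.twist 𝒜 e, U)) (s' : Γ(Twist.twist 𝒜 e', U))
    (hs : ∀ x hx, tval s' x hx * tval s x hx = 1) (t : Γ(GrTilde.tilde 𝒜 ℳ m, U)) :
    act h' s' (act h s t) = t :=
  sval_ext fun x hx ↦ by rw [sval_act, sval_act, smul_smul, hs x hx, one_smul]

/-- The bilinear product. -/
def actBil {e m l : ℤ} (h : e + m = l) (V : (Proj 𝒜).Opens) :
    Γ(GrTilde.tilde 𝒜 ℳ m, V) →ₗ[Γ(Proj 𝒜, V)] Γ(Twist.twist 𝒜 e, V) →ₗ[Γ(Proj 𝒜, V)]
      Γ(GrTilde.tilde 𝒜 ℳ l, V) :=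
  LinearMap.mk₂ Γ(Proj 𝒜, V) (fun t s ↦ act h s t)
    (fun _ _ _ ↦ sval_ext fun _ _ ↦ smul_add _ _ _)
    (fun c t s ↦ sval_ext fun x hx ↦ by
      rw [sval_act, sval_smul, sval_smul, sval_act, smul_comm])
    (fun _ _ _ ↦ sval_ext fun _ _ ↦ add_smul _ _ _)
    (fun c t s ↦ sval_ext fun x hx ↦ by
      rw [sval_act, tval_smul, sval_smul, sval_act, mul_smul])

/-- The product on the presheaf tensor product. -/
def actPre {e m l : ℤ} (h : e + m = l) :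
    Props.GenTensor.pre (GrTilde.tilde 𝒜 ℳ m) (Twist.twist 𝒜 e) ⟶
    (PresheafOfModules.restrictScalars (𝟙 (Proj 𝒜).ringCatSheaf.obj)).obj
      (GrTilde.tilde 𝒜 ℳ l).val :=
  PresheafOfModules.homMk
    { app := fun V => AddCommGrpCat.ofHom
        (TensorProduct.lift (actBil h V.unop)).toAddMonoidHom
      naturality := fun {V W} i => by
        ext (z : Γ(GrTilde.tilde 𝒜 ℳ m, V.unop) ⊗[Γ(Proj 𝒜, V.unop)] Γ(Twist.twist 𝒜 e, V.unop))
        induction z using TensorProduct.induction_on with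
        | zero => exact (map_zero _).trans (map_zero _).symm
        | tmul a b => rfl
        | add a b ha hb => exact (map_add _ a b).trans ((congrArg₂ (· + ·) ha hb).trans (map_add _ a b).symm) }
    (fun V r z => map_smul (TensorProduct.lift (actBil h V.unop)) (show Γ(Proj 𝒜, V.unop) from r)
      (show Γ(GrTilde.tilde 𝒜 ℳ m, V.unop) ⊗[Γ(Proj 𝒜, V.unop)] Γ(Twist.twist 𝒜 e, V.unop) from z))

/-- `M(m)~ ⊗ O(e) ⟶ M(e + m)~`. -/
def actHom {e m l : ℤ} (h : e + m = l) :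
    CohB1.tensorMod (GrTilde.tilde 𝒜 ℳ m) (Twist.twist 𝒜 e) ⟶ GrTilde.tilde 𝒜 ℳ l :=
  ((PresheafOfModules.sheafificationAdjunction (𝟙 (Proj 𝒜).ringCatSheaf.obj)).homEquiv _ _).symm
    (actPre h)

theorem actHom_tmul {e m l : ℤ} (h : e + m = l) {V : (Proj 𝒜).Opens}
    (t : Γ(GrTilde.tilde 𝒜 ℳ m, V)) (s : Γ(Twist.twist 𝒜 e, V)) :
    (actHom h).app V (Props.GenTensor.tmul t s) = act h s t := by
  have h' : ((PresheafOfModules.sheafificationAdjunction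
      (𝟙 (Proj 𝒜).ringCatSheaf.obj)).homEquiv _ _) (actHom (ℳ := ℳ) h) = actPre h :=
    Equiv.apply_symm_apply _ _
  exact congrArg (fun φ : Props.GenTensor.pre (GrTilde.tilde 𝒜 ℳ m) (Twist.twist 𝒜 e) ⟶
      (PresheafOfModules.restrictScalars (𝟙 (Proj 𝒜).ringCatSheaf.obj)).obj
        (GrTilde.tilde 𝒜 ℳ l).val =>
      (φ.app (op V)).hom (show (Props.GenTensor.pre (GrTilde.tilde 𝒜 ℳ m) (Twist.twist 𝒜 e)).obj (op V)
        from (t ⊗ₜ[Γ(Proj 𝒜, V)] s :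
          Γ(GrTilde.tilde 𝒜 ℳ m, V) ⊗[Γ(Proj 𝒜, V)] Γ(Twist.twist 𝒜 e, V)))) h'

end Module

section Frame

variable {d i j : ℕ} {a b : A} (ha : a ∈ 𝒜 i) (hb : b ∈ 𝒜 j) (hij : i = j + d) (n : ℤ)
  {U : (Proj 𝒜).Opens} (hU : U ≤ Proj.basicOpen 𝒜 (a * b))

include hU in
lemma nin_ab (x : U) : a ∉ (show ProjectiveSpectrum 𝒜 from x.1).asHomogeneousIdeal ∧
    b ∉ (show ProjectiveSpectrum 𝒜 from x.1).asHomogeneousIdeal :=
  ⟨fun h ↦ hU x.2 (Ideal.mul_mem_right _ _ h), fun h ↦ hU x.2 (Ideal.mul_mem_left _ _ h)⟩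

include hU in
lemma nin_pow_pow (p q : ℕ) (x : U) :
    a ^ p * b ^ q ∉ (show ProjectiveSpectrum 𝒜 from x.1).asHomogeneousIdeal :=
  mul_nin (pow_nin (nin_ab hU x).1 p) (pow_nin (nin_ab hU x).2 q)

/-- The section `(a / b) ^ n` of `O(n * d)` on `U ⊆ D₊(a * b)`. -/
def frame : Γ(Twist.twist 𝒜 (n * d), U) :=
  GrModLib.fracSec (ℳ := 𝒜)
    (SetLike.mul_mem_graded (pow_mem_deg ha n.toNat) (pow_mem_deg hb (-n).toNat))
    (SetLike.mul_mem_graded (pow_mem_deg ha (-n).toNat) (pow_mem_deg hb n.toNat)) (n * d)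
    (by
      subst hij
      push_cast
      linear_combination (d : ℤ) * Int.toNat_sub_toNat_neg n)
    (nin_pow_pow hU _ _)

lemma tval_frame_mul_neg (x : ProjectiveSpectrum 𝒜) (hx : x ∈ U) :
    tval (frame ha hb hij (-n) hU) x hx * tval (frame ha hb hij n hU) x hx = 1 := by
  refine (ProjTwist.mk_mul_mk (a := a ^ (-n).toNat * b ^ (- -n).toNat)
    (s := ⟨_, nin_pow_pow hU (- -n).toNat (-n).toNat ⟨x, hx⟩⟩)
    (b := a ^ n.toNat * b ^ (-n).toNat)
    (t := ⟨_, nin_pow_pow hU (-n).toNat n.toNat ⟨x, hx⟩⟩)).trans ?_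
  rw [Localization.mk_eq_mk', IsLocalization.mk'_eq_iff_eq_mul, one_mul]
  congr 1
  simp only [Submonoid.coe_mul, neg_neg]
  ring

lemma tval_frame_mul_neg' (x : ProjectiveSpectrum 𝒜) (hx : x ∈ U) :
    tval (frame ha hb hij n hU) x hx * tval (frame ha hb hij (-n) hU) x hx = 1 := by
  rw [mul_comm]; exact tval_frame_mul_neg ha hb hij n hU x hx

lemma res_frame {V : (Proj 𝒜).Opens} (h : V ≤ U) :
    res (Twist.twist 𝒜 (n * d)) h (frame ha hb hij n hU) = frame ha hb hij n (h.trans hU) := rfl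

variable {M : Type u} [AddCommGroup M] [Module R M] [Module A M] {ℳ : ℕ → Submodule R M}
  [SetLike.GradedSMul 𝒜 ℳ]

/-- Multiplication by the frame is bijective. -/
theorem bijective_act_frame {m l : ℤ} (h : n * d + m = l) :
    Function.Bijective
      (act (ℳ := ℳ) h (frame ha hb hij n hU) : Γ(GrTilde.tilde 𝒜 ℳ m, U) → _) := by
  have h' : -n * d + l = m := by rw [← h]; ring
  exact Function.bijective_iff_has_inverse.mpr ⟨act h' (frame ha hb hij (-n) hU),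
    act_act_cancel h h' _ _ (tval_frame_mul_neg ha hb hij n hU),
    act_act_cancel h' h _ _ (tval_frame_mul_neg' ha hb hij n hU)⟩

/-- The frame generates. -/
theorem isGen_frame : IsGen (Twist.twist 𝒜 (n * d)) U (frame ha hb hij n hU) := fun V hV ↦ by
  show Function.Bijective fun c : Γ(Proj 𝒜, V) ↦
    c • frame ha hb hij n (hV.trans hU)
  set e := frame ha hb hij n (hV.trans hU)
  set e' := frame ha hb hij (-n) (hV.trans hU)
  refine ⟨fun c c' hc ↦ ProjTwist.valAt_ext fun x hx ↦ ?_, fun s ↦ ?_⟩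
  · have h1 := congrArg (fun s ↦ tval s x hx * tval e' x hx) hc
    simp only [tval_smul, mul_assoc] at h1
    rwa [tval_frame_mul_neg' ha hb hij n (hV.trans hU) x hx, mul_one, mul_one] at h1
  · obtain ⟨c, hc⟩ := ProjTwist.exists_O_of_sectN_zero
      (ProjTwist.mulSec (show -n * (d : ℤ) + n * d = 0 by ring)
        (U := op V) e' s)
    refine ⟨c, tval_ext fun x hx ↦ ?_⟩
    refine (tval_smul _ _ x hx).trans ?_
    refine (congrArg (· * tval e x hx) (hc ⟨x, hx⟩)).trans ?_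
    change tval e' x hx * tval s x hx * tval e x hx = _
    rw [mul_right_comm, tval_frame_mul_neg ha hb hij n (hV.trans hU) x hx, one_mul]

end Frame

end Groth.Agent.ProjTilde
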