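import Groth.Agent.ProjTilde.Comap
import Groth.Agent.ProjSpec.EventIso
import Mathlib.RingTheory.Localization.Away.Basic
import Mathlib.RingTheory.Localization.Ideal

/-!
# Twists along eventually bijective homomorphisms and along localizations in degree zero
-/

set_option autoImplicit false
universe u

open CategoryTheory AlgebraicGeometry TopologicalSpace Opposite HomogeneousLocalization
open scoped HomogeneousIdeal

noncomputable section

namespace Groth.Agent.ProjTilde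

variable {R A B : Type u} [CommRing R] [CommRing A] [Algebra R A] {𝒜 : ℕ → Submodule R A} [GradedAlgebra 𝒜]
  [CommRing B] [Algebra R B] {ℬ : ℕ → Submodule R B} [GradedAlgebra ℬ]
  (ψ : 𝒜 →+*ᵍ ℬ) (hψ : ℬ₊ ≤ 𝒜₊.map ψ)

theorem exists_map_notMem (y : ProjectiveSpectrum ℬ) (hψ : ℬ₊ ≤ 𝒜₊.map ψ) :
    ∃ (k : ℕ) (f : A), 0 < k ∧ f ∈ 𝒜 k ∧ ψ f ∉ y.asHomogeneousIdeal := by
  by_contra h
  push Not at h
  exact (ProjectiveSpectrum.comap ψ hψ y).not_irrelevant_le
    ((HomogeneousIdeal.irrelevant_le _).2 fun k hk t ht => h k t hk ht)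

theorem injective_locMap_of (y : ProjectiveSpectrum ℬ)
    (h : ∀ (u : B) (a : A), u ∉ y.asHomogeneousIdeal → u * ψ a = 0 →
      ∃ v : A, ψ v ∉ y.asHomogeneousIdeal ∧ v * a = 0) :
    Function.Injective (GrTwist.locMap ψ hψ y) := by
  rw [injective_iff_map_eq_zero]
  intro q
  induction q using Localization.induction_on with
  | H p =>
    obtain ⟨a, s⟩ := p
    intro hq
    rw [GrTwist.locMap_mk, ← Localization.mk_zero 1, Localization.mk_eq_mk_iff,
      Localization.r_iff_exists] at hq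
    obtain ⟨⟨u, hu⟩, hu'⟩ := hq
    obtain ⟨v, hv, hva⟩ := h u a hu (by simpa using hu')
    rw [← Localization.mk_zero 1, Localization.mk_eq_mk_iff, Localization.r_iff_exists]
    exact ⟨⟨v, hv⟩, by simpa using hva⟩

section bij

variable {d₀ : ℕ} (hbij : ∀ d : ℕ, d₀ ≤ d → Set.BijOn ψ (𝒜 d) (ℬ d))
  {k : ℕ} {f : A} (hf : f ∈ 𝒜 k) (hk : d₀ ≤ k)

include hbij hf hk

theorem exists_preimage_mul (x : B) : ∃ a : A, ψ a = ψ f * x := by
  classical
  have key : ∀ i : ℕ, ∀ b ∈ ℬ i, ∃ a : A, ψ a = ψ f * b := fun i b hb =>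
    let ⟨a, _, h⟩ := (hbij _ (hk.trans (Nat.le_add_right k i))).surjOn (SetLike.mul_mem_graded (ψ.2 hf) hb)
    ⟨a, h⟩
  choose a ha using fun i => key i _ (SetLike.coe_mem (DirectSum.decompose ℬ x i))
  refine ⟨∑ i ∈ (DirectSum.decompose ℬ x).support, a i, ?_⟩
  rw [map_sum, Finset.sum_congr rfl fun i _ => ha i, ← Finset.mul_sum, DirectSum.sum_support_decompose]

theorem mul_eq_zero_of_map {a : A} (ha : ψ a = 0) : f * a = 0 := by
  classical
  rw [← DirectSum.sum_support_decompose 𝒜 a, Finset.mul_sum]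
  refine Finset.sum_eq_zero fun i _ => ?_
  refine (hbij _ (hk.trans (Nat.le_add_right k i))).injOn
    (SetLike.mul_mem_graded hf (SetLike.coe_mem _)) (zero_mem _) ?_
  rw [map_mul, map_zero, GradedRingHom.map_directSumDecompose, ha]
  simp

theorem exists_lift_homogeneous {i : ℕ} {b : B} (hb : b ∈ ℬ i) : ∃ a ∈ 𝒜 (k + i), ψ a = ψ f * b :=
  (hbij _ (hk.trans (Nat.le_add_right k i))).surjOn (SetLike.mul_mem_graded (ψ.2 hf) hb)

end bij

theorem isIso_adjunct_of_bij {d₀ : ℕ} (hbij : ∀ d : ℕ, d₀ ≤ d → Set.BijOn ψ (𝒜 d) (ℬ d)) (n : ℤ) :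
    IsIso (((Scheme.Modules.pullbackPushforwardAdjunction (Proj.map ψ hψ)).homEquiv _ _).symm
      (GrTwist.comap ψ hψ n)) := by
  have := ProjSpec.isIso_map_of_bij ψ hψ hbij
  have key : ∀ y : ProjectiveSpectrum ℬ,
      ∃ (k : ℕ) (f : A), d₀ ≤ k ∧ f ∈ 𝒜 k ∧ ψ f ∉ y.asHomogeneousIdeal := by
    intro y
    obtain ⟨k, f, hk, hf, hfy⟩ := exists_map_notMem ψ y hψ
    refine ⟨(d₀ + 1) • k, f ^ (d₀ + 1), (Nat.le_succ d₀).trans (Nat.le_mul_of_pos_right _ hk),
      SetLike.pow_mem_graded _ hf, fun h => hfy ?_⟩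
    rw [map_pow] at h
    exact y.isPrime.mem_of_pow_mem _ h
  refine isIso_adjunct _ _ fun W hW => bijective_comap ψ hψ n (fun y => ?_) (fun y i j b t ht hij => ?_) hW
  · refine injective_locMap_of ψ hψ y fun u a hu hua => ?_
    obtain ⟨k, f, hk, hf, hfy⟩ := key y
    obtain ⟨u', hu'⟩ := exists_preimage_mul ψ hbij hf hk u
    refine ⟨f * u', fun h => ?_, ?_⟩
    · rw [map_mul, hu', ← mul_assoc] at h
      exact ((y.isPrime.mem_or_mem h).elim (fun h => (y.isPrime.mem_or_mem h).elim hfy hfy) hu)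
    · rw [mul_assoc]
      refine mul_eq_zero_of_map ψ hbij hf hk ?_
      rw [map_mul, hu', mul_assoc, hua, mul_zero]
  · rcases hij with hij | hb
    · obtain ⟨k, f, hk, hf, hfy⟩ := key y
      obtain ⟨a, ha, ha'⟩ := exists_lift_homogeneous ψ hbij hf hk b.2
      obtain ⟨s, hs, hs'⟩ := exists_lift_homogeneous ψ hbij hf hk t.2
      refine ⟨k + i, k + j, ⟨a, ha⟩, ⟨s, hs⟩, ?_, Or.inl (by push_cast; omega), ?_⟩
      · rw [hs']
        exact fun h => (y.isPrime.mem_or_mem h).elim hfy ht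
      · show ψ s * (b : B) = (t : B) * ψ a
        rw [hs', ha']; ring
    · exact ⟨0, 0, 0, ⟨1, SetLike.GradedOne.one_mem⟩,
        fun h => y.isPrime.ne_top ((Ideal.eq_top_iff_one _).mpr (by simpa using h)), Or.inr rfl, by simp [hb]⟩

section away

variable [Algebra A B] {g : A} (hg : g ∈ 𝒜 0) (hψA : ∀ a : A, ψ a = algebraMap A B a)
  [IsLocalization.Away g B]
  (hdeg : ∀ (n : ℕ) (b : B), b ∈ ℬ n ↔ ∃ (k : ℕ) (a : A), a ∈ 𝒜 n ∧ ψ g ^ k * b = ψ a)

omit [GradedAlgebra 𝒜] [GradedAlgebra ℬ] in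
include hψA in
theorem isUnit_map : IsUnit (ψ g) := by
  rw [hψA]; exact IsLocalization.Away.algebraMap_isUnit g

omit [GradedAlgebra 𝒜] [GradedAlgebra ℬ] in
include hψA in
theorem exists_pow_mul_eq_zero {a : A} (ha : ψ a = 0) : ∃ m : ℕ, g ^ m * a = 0 := by
  rw [hψA, ← map_zero (algebraMap A B)] at ha
  obtain ⟨⟨_, m, rfl⟩, hm⟩ := (IsLocalization.eq_iff_exists (Submonoid.powers g) B).1 ha
  exact ⟨m, by simpa using hm⟩

include hψA in
theorem notMem_of_isUnit (y : ProjectiveSpectrum ℬ) (m : ℕ) : ψ g ^ m ∉ y.asHomogeneousIdeal := fun h =>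
  y.isPrime.ne_top (Ideal.eq_top_of_isUnit_mem _ h ((isUnit_map ψ hψA).pow m))

include hg hψA hdeg in
theorem away_map_isLocalization {k : ℕ} {a : A} (ha : a ∈ 𝒜 k) :
    letI := (Away.map ψ a).toAlgebra
    IsLocalization.Away (fromZeroRingHom 𝒜 (Submonoid.powers a) ⟨g, hg⟩) (Away ℬ (ψ a)) := by
  letI := (Away.map ψ a).toAlgebra
  have hψa : ψ a ∈ ℬ k := ψ.2 ha
  have hg0 : g ∈ 𝒜 (0 • k) := by rwa [zero_smul]
  have hγ : (fromZeroRingHom 𝒜 (Submonoid.powers a) ⟨g, hg⟩) = Away.mk 𝒜 ha 0 g hg0 :=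
    val_injective _ (by simp [fromZeroRingHom])
  rw [hγ]
  obtain ⟨w, hw⟩ := isUnit_iff_exists_inv.1 (isUnit_map (g := g) ψ hψA)
  have hw0 : w ∈ ℬ 0 := (hdeg 0 w).2 ⟨1, 1, SetLike.GradedOne.one_mem, by rw [pow_one, hw, map_one]⟩
  have hpow : ∀ m : ℕ, ∀ n : ℕ, ∀ x : A, x ∈ 𝒜 (n • k) → g ^ m * x ∈ 𝒜 (n • k) := fun m n x hx => by
    simpa using SetLike.mul_mem_graded (SetLike.pow_mem_graded m hg) hx
  refine IsLocalization.Away.mk _ ?_ ?_ ?_
  · refine IsUnit.of_mul_eq_one (Away.mk ℬ hψa 0 w (by rwa [zero_smul])) (val_injective _ ?_)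
    rw [RingHom.algebraMap_toAlgebra, Away.map_mk, val_mul, Away.val_mk, Away.val_mk, val_one,
      Localization.mk_mul, ← Localization.mk_one, Localization.mk_eq_mk_iff, Localization.r_iff_exists]
    exact ⟨1, by simpa using hw⟩
  · intro z
    obtain ⟨n, b, hb, rfl⟩ := Away.mk_surjective ℬ hψa z
    obtain ⟨m, x, hx, hbx⟩ := (hdeg _ b).1 hb
    refine ⟨m, Away.mk 𝒜 ha n x hx, val_injective _ ?_⟩
    rw [RingHom.algebraMap_toAlgebra, Away.map_mk, Away.map_mk, val_mul, val_pow, Away.val_mk, Away.val_mk,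
      Away.val_mk, Localization.mk_pow, Localization.mk_mul, Localization.mk_eq_mk_iff, Localization.r_iff_exists]
    refine ⟨1, ?_⟩
    simp [← hbx]
    ring
  · intro z z' h
    obtain ⟨n, x, hx, rfl⟩ := Away.mk_surjective 𝒜 ha z
    obtain ⟨n', x', hx', rfl⟩ := Away.mk_surjective 𝒜 ha z'
    have h' := congrArg HomogeneousLocalization.val h
    rw [RingHom.algebraMap_toAlgebra, Away.map_mk, Away.map_mk, Away.val_mk, Away.val_mk,
      Localization.mk_eq_mk_iff, Localization.r_iff_exists] at h'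
    obtain ⟨⟨_, l, rfl⟩, hl⟩ := h'
    have h0 : ψ (a ^ l * (a ^ n' * x - a ^ n * x')) = 0 := by
      rw [map_mul, map_sub, map_mul, map_mul, map_pow, map_pow, map_pow, mul_sub, sub_eq_zero]
      simpa using hl
    obtain ⟨m, hm⟩ := exists_pow_mul_eq_zero (g := g) ψ hψA h0
    refine ⟨m, val_injective _ ?_⟩
    rw [val_mul, val_mul, val_pow, Away.val_mk, Away.val_mk, Away.val_mk, Localization.mk_pow,
      Localization.mk_mul, Localization.mk_mul, Localization.mk_eq_mk_iff, Localization.r_iff_exists]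
    refine ⟨⟨a ^ l, l, rfl⟩, ?_⟩
    simp
    linear_combination hm

include hg hψA hdeg in
theorem isOpenImmersion_map_away : IsOpenImmersion (Proj.map ψ hψ) :=
  RelProjLib.map_property ψ hψ @IsOpenImmersion fun k _ a ha => by
    letI := (Away.map ψ a).toAlgebra
    have := away_map_isLocalization ψ hg hψA hdeg ha
    exact IsOpenImmersion.of_isLocalization (R := Away 𝒜 a) (S := Away ℬ (ψ a))
      (fromZeroRingHom 𝒜 (Submonoid.powers a) ⟨g, hg⟩)

include hψA in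
theorem range_map_away (hg' : g ∈ 𝒜 0) :
    Set.range (Proj.map ψ hψ).base =
      (Proj.toSpecZero 𝒜).base ⁻¹' (PrimeSpectrum.basicOpen (⟨g, hg'⟩ : 𝒜 0) : Set (PrimeSpectrum (𝒜 0))) := by
  classical
  have hz : ∀ x : Proj 𝒜, x ∈ (Proj.toSpecZero 𝒜).base ⁻¹'
      (PrimeSpectrum.basicOpen (⟨g, hg'⟩ : 𝒜 0) : Set (PrimeSpectrum (𝒜 0))) ↔ g ∉ x.asHomogeneousIdeal := by
    intro x
    obtain ⟨s, y, hy⟩ := (Proj.affineOpenCover 𝒜).openCover.exists_eq x
    subst hy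
    change Spec (CommRingCat.of (Away 𝒜 (s.2 : A))) at y
    show (Proj.toSpecZero 𝒜) ((Proj.awayι 𝒜 (s.2 : A) s.2.2 s.1.2) y) ∈
        PrimeSpectrum.basicOpen (⟨g, hg'⟩ : 𝒜 0) ↔ _
    rw [← Scheme.Hom.comp_apply, Proj.awayι_toSpecZero]
    have h := SetLike.ext_iff.1 (Proj.awayι_preimage_basicOpen 𝒜 s.2.2 s.1.2
      (SetLike.mul_mem_graded hg' s.2.2 : g * (s.2 : A) ∈ 𝒜 (0 + s.1)) (Nat.add_pos_right 0 s.1.2)) y
    have hsy : (s.2 : A) ∉ (Proj.awayι 𝒜 (s.2 : A) s.2.2 s.1.2 y).asHomogeneousIdeal :=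
      (Proj.opensRange_awayι 𝒜 (s.2 : A) s.2.2 s.1.2).le ⟨y, rfl⟩
    have h' : g * (s.2 : A) ∉ (Proj.awayι 𝒜 (s.2 : A) s.2.2 s.1.2 y).asHomogeneousIdeal ↔
        Away.isLocalizationElem s.2.2 (SetLike.mul_mem_graded hg' s.2.2 : g * (s.2 : A) ∈ 𝒜 (0 + s.1)) ∉
          y.asIdeal := h
    have hel : Away.isLocalizationElem s.2.2 (SetLike.mul_mem_graded hg' s.2.2 : g * (s.2 : A) ∈ 𝒜 (0 + s.1)) =
        fromZeroRingHom 𝒜 (Submonoid.powers (s.2 : A)) ⟨g, hg'⟩ ^ (s.1 : ℕ) := by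
      refine val_injective _ ?_
      simp only [Away.isLocalizationElem, Away.val_mk, val_pow, fromZeroRingHom, RingHom.coe_mk, MonoidHom.coe_mk,
        OneHom.coe_mk, val_mk, Localization.mk_pow]
      rw [Localization.mk_eq_mk_iff, Localization.r_iff_exists]
      exact ⟨1, by simp [mul_pow]; ring⟩
    rw [hel] at h'
    replace h' := h'.trans (not_congr (Ideal.IsPrime.pow_mem_iff_mem (I := y.asIdeal) y.isPrime _ s.1.2))
    show ¬ _ ↔ _
    refine Iff.trans ?_ (Iff.trans h'.symm ?_)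
    · rfl
    · exact not_congr ⟨fun hh => (((Proj.awayι 𝒜 (s.2 : A) s.2.2 s.1.2) y).isPrime.mem_or_mem hh).resolve_right hsy,
        fun hh => Ideal.mul_mem_right _ _ hh⟩
  refine Set.ext fun x => Iff.trans ⟨?_, fun hgx => ?_⟩ (hz x).symm
  · rintro ⟨y, rfl⟩ h
    exact y.isPrime.ne_top (Ideal.eq_top_of_isUnit_mem _ h (isUnit_map ψ hψA))
  · have hdisj : Disjoint (Submonoid.powers g : Set A) (x.asHomogeneousIdeal.toIdeal : Set A) := by
      rw [Set.disjoint_left]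
      rintro _ ⟨m, rfl⟩ hm
      exact hgx (x.isPrime.mem_of_pow_mem m hm)
    have hmap : (x.asHomogeneousIdeal.map ψ).toIdeal = x.asHomogeneousIdeal.toIdeal.map (algebraMap A B) :=
      congrArg (fun e => Ideal.map e x.asHomogeneousIdeal.toIdeal) (RingHom.ext hψA : ψ.toRingHom = _)
    have hprime : (x.asHomogeneousIdeal.map ψ).toIdeal.IsPrime := by
      rw [hmap]
      exact IsLocalization.isPrime_of_isPrime_disjoint (Submonoid.powers g) B _ x.isPrime hdisj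
    have hcomap : ∀ a : A, ψ a ∈ x.asHomogeneousIdeal.map ψ ↔ a ∈ x.asHomogeneousIdeal := fun a => by
      show ψ a ∈ (x.asHomogeneousIdeal.map ψ).toIdeal ↔ _
      rw [hmap, hψA, ← Ideal.mem_comap]
      exact SetLike.ext_iff.1
        (IsLocalization.comap_map_of_isPrime_disjoint (Submonoid.powers g) B x.isPrime hdisj) a
    refine ⟨(⟨x.asHomogeneousIdeal.map ψ, hprime, fun hle => x.not_irrelevant_le fun a ha =>
      (hcomap a).1 (hle ?_)⟩ : ProjectiveSpectrum ℬ), ProjectiveSpectrum.ext (HomogeneousIdeal.ext (Ideal.ext hcomap))⟩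
    show GradedRing.proj ℬ 0 (ψ a) = 0
    rw [GradedRing.proj_apply, ← GradedRingHom.map_directSumDecompose]
    exact (congrArg ψ ((GradedRing.proj_apply 𝒜 0 a).symm.trans ha)).trans (map_zero ψ)

include hg hψA hdeg in
theorem isIso_adjunct_away (n : ℤ) :
    IsIso (((Scheme.Modules.pullbackPushforwardAdjunction (Proj.map ψ hψ)).homEquiv _ _).symm
      (GrTwist.comap ψ hψ n)) := by
  have := isOpenImmersion_map_away ψ hψ hg hψA hdeg
  refine isIso_adjunct _ _ fun W hW => bijective_comap ψ hψ n (fun y => ?_) (fun y i j b t ht hij => ?_) hW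
  · refine injective_locMap_of ψ hψ y fun u a hu hua => ?_
    obtain ⟨m, u', hu'⟩ := IsLocalization.Away.surj g u
    rw [← hψA, ← hψA] at hu'
    obtain ⟨l, hl⟩ := exists_pow_mul_eq_zero (g := g) ψ hψA (a := u' * a) (by
      rw [map_mul, ← hu', mul_right_comm, hua, zero_mul])
    refine ⟨g ^ l * u', fun h => ?_, by rw [mul_assoc, hl]⟩
    rw [map_mul, map_pow, ← hu'] at h
    rcases y.isPrime.mem_or_mem h with h | h
    · exact notMem_of_isUnit (g := g) ψ hψA y l h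
    · exact (y.isPrime.mem_or_mem h).elim hu (notMem_of_isUnit (g := g) ψ hψA y m)
  · rcases hij with hij | hb
    · obtain ⟨k, a, ha, hka⟩ := (hdeg i b).1 b.2
      obtain ⟨l, s, hs, hls⟩ := (hdeg j t).1 t.2
      have hgm : ∀ {i : ℕ} (m : ℕ) {x : A}, x ∈ 𝒜 i → g ^ m * x ∈ 𝒜 i := fun {i} m {x} hx => by
        simpa using SetLike.mul_mem_graded (SetLike.pow_mem_graded m hg) hx
      refine ⟨i, j, ⟨g ^ l * a, hgm l ha⟩, ⟨g ^ k * s, hgm k hs⟩, ?_, Or.inl hij, ?_⟩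
      · show ψ (g ^ k * s) ∉ _
        rw [map_mul, map_pow, ← hls]
        exact fun h => (y.isPrime.mem_or_mem h).elim (notMem_of_isUnit (g := g) ψ hψA y k)
          fun h => (y.isPrime.mem_or_mem h).elim (notMem_of_isUnit (g := g) ψ hψA y l) ht
      · show ψ (g ^ k * s) * (b : B) = (t : B) * ψ (g ^ l * a)
        rw [map_mul, map_mul, map_pow, map_pow, ← hls, ← hka]; ring
    · exact ⟨0, 0, 0, ⟨1, SetLike.GradedOne.one_mem⟩,
        fun h => y.isPrime.ne_top ((Ideal.eq_top_iff_one _).mpr (by simpa using h)), Or.inr rfl, by simp [hb]⟩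

end away

end Groth.Agent.ProjTilde
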