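import Groth.Agent.Props.GenLocus
import Groth.Prelude.Def_FlatMod2

/-!
Global sections spanning locally give an epimorphism from a free module.
-/

universe u w

open CategoryTheory CategoryTheory.Limits AlgebraicGeometry TopologicalSpace Opposite

noncomputable section

namespace Groth.Agent.ProjTilde

open Groth.Agent.QCoh Groth.Agent.Props.GenLocus

variable {X : Scheme.{u}} {M : X.Modules}

theorem epi_desc_of_span {ι : Type w} [HasCoproduct fun _ : ι ↦ Coh.structureModule X]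
    (σ : ι → Γ(M, ⊤))
    (h : ∀ (V : X.Opens) (m : Γ(M, V)), ∀ x ∈ V, ∃ (W : X.Opens) (hW : W ≤ V), x ∈ W ∧
      res M hW m ∈ Submodule.span Γ(X, W) (Set.range fun i ↦ res M (le_top : W ≤ ⊤) (σ i))) :
    Epi (Sigma.desc fun i ↦ homOfSec (σ i)) := by
  refine Preadditive.epi_of_cancel_zero _ fun {Q} π hπ ↦ ?_
  have hz : ∀ (i : ι) (W : X.Opens), π.app W (res M (le_top : W ≤ ⊤) (σ i)) = 0 := fun i W ↦ by
    have e : homOfSec (σ i) ≫ π = 0 := by
      rw [← Sigma.ι_desc (fun i ↦ homOfSec (σ i)) i, Category.assoc, hπ, comp_zero]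
    rw [← sec_homOfSec]
    exact congr(($e).app W (one' W))
  refine Scheme.Modules.hom_ext π 0 fun V ↦ ?_
  ext m
  change π.app V m = 0
  choose W hW hxW hm using fun x : V ↦ h V m x.1 x.2
  refine eq_zero_of_locally_eq_zero Q hW (fun x hx ↦ Opens.mem_iSup.mpr ⟨⟨x, hx⟩, hxW _⟩) _
    fun x ↦ ?_
  rw [← app_res]
  have h' := hm x
  generalize res M (hW x) m = z at h' ⊢
  induction h' using Submodule.span_induction with
  | mem y hz' => obtain ⟨i, rfl⟩ := hz'; exact hz i _
  | zero => exact map_zero _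
  | add a b _ _ ha hb => rw [map_add, ha, hb, add_zero]
  | smul c a _ ha => rw [Scheme.Modules.Hom.app_smul, ha, smul_zero]

/-- Sections generating on the members of an open cover give an epimorphism. -/
theorem epi_desc_of_isGen {ι : Type w} [HasCoproduct fun _ : ι ↦ Coh.structureModule X]
    (σ : ι → Γ(M, ⊤)) (W : ι → X.Opens) (hcov : ⊤ ≤ iSup W)
    (hg : ∀ i, IsGen M (W i) (res M le_top (σ i))) :
    Epi (Sigma.desc fun i ↦ homOfSec (σ i)) := by
  refine epi_desc_of_span σ fun V m x hx ↦ ?_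
  obtain ⟨i, hi⟩ := Opens.mem_iSup.mp (hcov (trivial : x ∈ (⊤ : X.Opens)))
  obtain ⟨a, ha, -⟩ := (hg i).exists_eq (inf_le_right : V ⊓ W i ≤ W i) (res M inf_le_left m)
  refine ⟨V ⊓ W i, inf_le_left, ⟨hx, hi⟩, ha ▸ Submodule.smul_mem _ _
    (Submodule.subset_span ⟨i, ?_⟩)⟩
  rw [res_res]

end Groth.Agent.ProjTilde
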