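import Groth.Agent.ProjTilde.Twists
import Groth.Agent.QCoh.FiniteType
import Groth.Agent.GrModLib.Alpha

/-!
Graded modules with finitely generated tails: `M~` is of finite type, and vanishes iff the tail does.
-/

universe u

open CategoryTheory CategoryTheory.Limits AlgebraicGeometry TopologicalSpace Opposite

noncomputable section

namespace Groth.Agent.ProjTilde

open GrModLib DirectSum Groth.Agent.QCoh

variable {R A : Type u} [CommRing R] [CommRing A] [Algebra R A] {𝒜 : ℕ → Submodule R A}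
  [GradedAlgebra 𝒜]

variable (𝒜) in
/-- A finitely generated irrelevant ideal has homogeneous generators of positive degree. -/
theorem exists_gens_of_fg (hfg : (HomogeneousIdeal.irrelevant 𝒜).toIdeal.FG) :
    ∃ (N : ℕ) (g : Fin N → A) (d : Fin N → ℕ), (∀ l, 0 < d l) ∧ (∀ l, g l ∈ 𝒜 (d l)) ∧
      ∀ (i : ℕ) (a : A), 0 < i → a ∈ 𝒜 i → a ∈ Ideal.span (Set.range g) := by
  classical
  set S : Set A := {a | ∃ i, 0 < i ∧ a ∈ 𝒜 i}
  have hS : (HomogeneousIdeal.irrelevant 𝒜).toIdeal = Ideal.span S := by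
    refine le_antisymm (fun a ha ↦ ?_) (Ideal.span_le.mpr ?_)
    · rw [← DirectSum.sum_support_decompose 𝒜 a]
      refine Ideal.sum_mem _ fun i _ ↦ ?_
      rcases Nat.eq_zero_or_pos i with rfl | hi
      · have h0 := (HomogeneousIdeal.mem_irrelevant_iff 𝒜 a).mp ha
        rw [GradedRing.proj_apply] at h0
        rw [h0]; exact zero_mem _
      · exact Ideal.subset_span ⟨i, hi, SetLike.coe_mem _⟩
    · rintro a ⟨i, hi, ha⟩
      exact HomogeneousIdeal.mem_irrelevant_of_mem 𝒜 hi ha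
  obtain ⟨T, hTS, hT⟩ := Submodule.fg_span_iff_fg_span_finset_subset S |>.mp
    (show (Ideal.span S).FG from hS.symm ▸ hfg)
  choose d hd hg using fun t : T ↦ hTS t.2
  refine ⟨T.card, fun l ↦ (T.equivFin.symm l).1, fun l ↦ d _, fun l ↦ hd _, fun l ↦ hg _,
    fun i a hi ha ↦ ?_⟩
  have h1 : a ∈ Submodule.span A S := Submodule.subset_span ⟨i, hi, ha⟩
  rw [hT] at h1
  refine Submodule.span_mono ?_ h1
  intro t ht
  exact ⟨T.equivFin ⟨t, ht⟩, by simp⟩

section Monomial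

variable {N : ℕ} (g : Fin N → A) (d : Fin N → ℕ)

/-- The monomial `∏ g ^ r`. -/
def mono (r : Fin N → ℕ) : A := ∏ l, g l ^ r l

variable {g d}

lemma mono_mem (hg : ∀ l, g l ∈ 𝒜 (d l)) (r : Fin N → ℕ) :
    mono g r ∈ 𝒜 (∑ l, r l * d l) :=
  SetLike.prod_mem_graded 𝒜 (fun l ↦ r l * d l) (fun l ↦ g l ^ r l) fun l _ ↦ pow_mem_deg (hg l) (r l)

lemma mono_add (r r' : Fin N → ℕ) : mono g (r + r') = mono g r * mono g r' := by
  simp [mono, pow_add, Finset.prod_mul_distrib]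

/-- Homogeneous elements are combinations of monomials with coefficients of degree zero. -/
theorem mem_closure_mono (hd : ∀ l, 0 < d l) (hg : ∀ l, g l ∈ 𝒜 (d l))
    (hirr : ∀ (i : ℕ) (a : A), 0 < i → a ∈ 𝒜 i → a ∈ Ideal.span (Set.range g)) :
    ∀ (i : ℕ) (a : A), a ∈ 𝒜 i →
      a ∈ AddSubgroup.closure
        {z | ∃ c ∈ 𝒜 0, ∃ r : Fin N → ℕ, ∑ l, r l * d l = i ∧ z = c * mono g r} := by
  classical
  intro i
  induction i using Nat.strong_induction_on with
  | _ i ih =>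
    intro a ha
    rcases Nat.eq_zero_or_pos i with rfl | hi
    · exact AddSubgroup.subset_closure ⟨a, ha, 0, by simp, by simp [mono]⟩
    obtain ⟨b, hb⟩ := (Submodule.mem_span_range_iff_exists_fun A).mp (hirr i a hi ha)
    have h1 : a = ∑ l, (decompose 𝒜 (b l * g l) i : A) := by
      conv_lhs => rw [← decompose_of_mem_same 𝒜 ha, ← hb]
      rw [decompose_sum, DFinsupp.finsetSum_apply, AddSubmonoidClass.coe_finsetSum]
      rfl
    rw [h1]
    refine AddSubgroup.sum_mem _ fun l _ ↦ ?_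
    rw [coe_decompose_mul_of_right_mem 𝒜 i (hg l)]
    split_ifs with hle
    · have h2 := ih (i - d l) (by have := hd l; omega) _
        (SetLike.coe_mem (decompose 𝒜 (b l) (i - d l)))
      generalize (decompose 𝒜 (b l) (i - d l) : A) = z at h2
      induction h2 using AddSubgroup.closure_induction with
      | mem z hz =>
        obtain ⟨c, hc, r, hr, rfl⟩ := hz
        refine AddSubgroup.subset_closure ⟨c, hc, r + Pi.single l 1, ?_, ?_⟩
        · simp only [Pi.add_apply, add_mul, Finset.sum_add_distrib, hr, Pi.single_apply, ite_mul,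
            one_mul, zero_mul, Finset.sum_ite_eq', Finset.mem_univ, if_true]
          omega
        · rw [mono_add, mul_assoc]
          congr 2
          simp [mono, Pi.single_apply, pow_ite]
      | zero => rw [zero_mul]; exact zero_mem _
      | add x y _ _ hx hy => rw [add_mul]; exact add_mem hx hy
      | neg x _ hx => rw [neg_mul]; exact neg_mem hx
    · exact zero_mem _

end Monomial

variable {M : Type u} [AddCommGroup M] [Module R M] [Module A M] {ℳ : ℕ → Submodule R M}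
  [DirectSum.Decomposition ℳ] [SetLike.GradedSMul 𝒜 ℳ]

variable (ℳ) in
/-- The submodule generated by the degrees `≥ k`. -/
abbrev tail (k : ℕ) : Submodule A M := Submodule.span A (⋃ i ∈ Set.Ici k, (ℳ i : Set M))

omit [DirectSum.Decomposition ℳ] in
lemma mem_tail {k i : ℕ} {m : M} (h : k ≤ i) (hm : m ∈ ℳ i) : m ∈ tail (A := A) ℳ k :=
  Submodule.subset_span (Set.mem_iUnion₂.mpr ⟨i, h, hm⟩)

variable (𝒜) in
include 𝒜 in
/-- A finitely generated tail has finitely many homogeneous generators. -/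
theorem exists_tail_gens {k : ℕ} (hfg : (tail (A := A) ℳ k).FG) :
    ∃ (E r : ℕ) (y : Fin r → M) (j : Fin r → ℕ), (∀ s, j s ≤ E) ∧ (∀ s, y s ∈ ℳ (j s)) ∧
      tail (A := A) ℳ k = Submodule.span A (Set.range y) := by
  classical
  have hP : IsHom ℳ (tail (A := A) ℳ k) := isHom_span (𝒜 := 𝒜) fun y hy ↦ by
    obtain ⟨i, -, hi⟩ := Set.mem_iUnion₂.mp hy
    exact ⟨i, hi⟩
  obtain ⟨E, S, hS, hdeg⟩ := hP.exists_gens hfg
  obtain ⟨T, hTS, hT⟩ := Submodule.fg_span_iff_fg_span_finset_subset S |>.mp (hS ▸ hfg)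
  choose j hj hjy using fun t : T ↦ hdeg t.1 (hTS t.2)
  refine ⟨E, T.card, fun s ↦ (T.equivFin.symm s).1, fun s ↦ j _, fun s ↦ hj _, fun s ↦ hjy _, ?_⟩
  rw [← hS, hT]
  congr 1
  ext t
  exact ⟨fun ht ↦ ⟨T.equivFin ⟨t, ht⟩, by simp⟩, fun ⟨s, hs⟩ ↦ hs ▸ (T.equivFin.symm s).2⟩

/-- `M(0)~` is of finite type when the tail is finitely generated. -/
theorem isFiniteType_tilde (hfg : (HomogeneousIdeal.irrelevant 𝒜).toIdeal.FG)
    (hTF : ∃ k : ℕ, (tail (A := A) ℳ k).FG) :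
    SheafOfModules.IsFiniteType.{u} (GrTilde.tilde 𝒜 ℳ 0) := by
  classical
  obtain ⟨k₀, hk₀⟩ := hTF
  obtain ⟨-, r, y, j, -, hy, htail⟩ := exists_tail_gens 𝒜 hk₀
  obtain ⟨N, g, d, hd, hg, hirr⟩ := exists_gens_of_fg 𝒜 hfg
  have := isQuasicoherent_tilde (𝒜 := 𝒜) (ℳ := ℳ) 0
  refine isFiniteType_of_forall_exists _ fun x ↦ ?_
  obtain ⟨l₀, hl₀⟩ := exists_not_mem g hirr (show ProjectiveSpectrum 𝒜 from x)
  set f := g l₀
  set δ := d l₀
  have hδ : 0 < δ := hd l₀
  have hf : f ∈ 𝒜 δ := hg l₀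
  refine ⟨_, Proj.isAffineOpen_basicOpen 𝒜 f hf hδ, hl₀, ?_⟩
  set U := Proj.basicOpen 𝒜 f
  have hU : ∀ (e : ℕ) (x : U), f ^ e ∉ (show ProjectiveSpectrum 𝒜 from x.1).asHomogeneousIdeal :=
    fun e x ↦ pow_nin x.2 e
  let I := {p : Fin r × (Fin N → Fin δ) // δ ∣ (∑ l, (p.2 l : ℕ) * d l) + j p.1}
  let gen : I → Γ(GrTilde.tilde 𝒜 ℳ 0, U) := fun p ↦
    fracSec (SetLike.GradedSMul.smul_mem (mono_mem hg fun l ↦ (p.1.2 l : ℕ)) (hy p.1.1))
      (pow_mem_deg hf (((∑ l, (p.1.2 l : ℕ) * d l) + j p.1.1) / δ)) 0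
      (by rw [add_zero, Nat.div_mul_cancel p.2]; rfl) (hU _)
  let S := Submodule.span Γ(Proj 𝒜, U) (Set.range gen)
  let ok : ℕ → M → Prop := fun e m ↦ ∀ hm : m ∈ ℳ (e * δ),
    (fracSec hm (pow_mem_deg hf e) 0 (add_zero _).symm (hU e) :
      Γ(GrTilde.tilde 𝒜 ℳ 0, U)) ∈ S
  suffices H : ∀ (e : ℕ) (m : M), k₀ ≤ e * δ → ok e m by
    refine ⟨⟨Finset.univ.image gen, ?_⟩⟩
    rw [Finset.coe_image, Finset.coe_univ, Set.image_univ]
    refine eq_top_iff.mpr fun s _ ↦ ?_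
    obtain ⟨e, i, m, hm, hi, hval⟩ := exists_frac (ℳ := ℳ) hf hδ 0 (U := U) (fun _ h ↦ h)
      (show GrMod.sect 𝒜 ℳ 0 (op U) from s)
    have hi' : i = e * δ := by push_cast at hi; exact_mod_cast (hi.trans (add_zero _))
    subst hi'
    have hm' : f ^ k₀ • m ∈ ℳ ((k₀ + e) * δ) := by
      have h := SetLike.GradedSMul.smul_mem (pow_mem_deg hf k₀) hm
      rwa [vadd_eq_add, ← add_mul] at h
    have h := H (k₀ + e) _ (by
      have : (k₀ + e) * 1 ≤ (k₀ + e) * δ := Nat.mul_le_mul_left _ hδ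
      omega) hm'
    refine (congrArg (· ∈ S) (sval_ext fun x hx ↦ ?_ : s = _)).mpr h
    refine (hval x hx).trans ?_
    change _ = GrModLib.mk x (f ^ k₀ • m) (f ^ (k₀ + e)) _
    refine mk_eq_mk_iff.mpr ⟨1, GrMod.one_nin x, ?_⟩
    rw [one_smul, sub_eq_zero, ← mul_smul, ← pow_add, add_comm k₀ e]
  intro e m hk hm
  -- the elementary fractions
  have key : ∀ (s : Fin r) (c : A) (q : Fin N → ℕ), c ∈ 𝒜 0 →
      (∑ l, q l * d l) + j s = e * δ → ok e ((c * mono g q) • y s) := fun s c q hc hq hm' ↦ by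
    let q1 : Fin N → Fin δ := fun l ↦ ⟨q l % δ, Nat.mod_lt _ hδ⟩
    let q2 : Fin N → ℕ := fun l ↦ δ * (q l / δ)
    have hqq : q = q2 + fun l ↦ (q1 l : ℕ) := funext fun l ↦ (Nat.div_add_mod (q l) δ).symm
    set Q := ∑ l, (q l / δ) * d l
    have hQ : ∑ l, q2 l * d l = Q * δ := by
      rw [Finset.sum_mul]
      exact Finset.sum_congr rfl fun l _ ↦ by simp only [q2]; ring
    have hsum : Q * δ + ((∑ l, (q1 l : ℕ) * d l) + j s) = e * δ := by
      rw [← hq, ← hQ, ← add_assoc, ← Finset.sum_add_distrib]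
      congr 1
      exact Finset.sum_congr rfl fun l _ ↦ by rw [← add_mul, hqq]; rfl
    have hdvd : δ ∣ (∑ l, (q1 l : ℕ) * d l) + j s :=
      (Nat.dvd_add_right ⟨Q, mul_comm _ _⟩).mp (hsum ▸ ⟨e, mul_comm _ _⟩)
    set e' := ((∑ l, (q1 l : ℕ) * d l) + j s) / δ
    have he : Q + e' = e := Nat.eq_of_mul_eq_mul_right hδ (by
      rw [add_mul, Nat.div_mul_cancel hdvd, hsum])
    have hb : c * mono g q2 ∈ 𝒜 (Q * δ) := by
      simpa [hQ] using SetLike.mul_mem_graded hc (mono_mem hg q2)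
    refine (congrArg (· ∈ S) (sval_ext fun x hx ↦ ?_ : _ =
      ProjTwist.fracFun hb (pow_mem_deg hf Q) (fun z hz ↦ hU Q ⟨z, hz⟩ : U ≤ _) •
        gen ⟨(s, q1), hdvd⟩)).mpr (Submodule.smul_mem _ _ (Submodule.subset_span ⟨_, rfl⟩))
    refine Eq.trans ?_ (sval_smul _ _ x hx).symm
    refine Eq.trans ?_ (congrArg₂ (· • ·) (ProjTwist.valAt_fracFun hb (pow_mem_deg hf Q)
      (fun z hz ↦ hU Q ⟨z, hz⟩ : U ≤ _) x hx).symm rfl)
    change GrModLib.mk x _ _ _ = _ • GrModLib.mk x _ _ _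
    refine Eq.trans ?_ (LocalizedModule.mk_smul_mk _ _ _ _).symm
    refine mk_eq_mk_iff.mpr ⟨1, GrMod.one_nin x, ?_⟩
    rw [one_smul, sub_eq_zero]
    simp only [← mul_smul]
    congr 1
    rw [← he, pow_add, hqq, mono_add]
    ring
  -- additivity
  have hzero : ok e 0 := fun hm' ↦ by
    refine (congrArg (· ∈ S) (sval_ext fun x hx ↦ ?_ :
      _ = (0 : Γ(GrTilde.tilde 𝒜 ℳ 0, U)))).mpr (zero_mem S)
    exact LocalizedModule.zero_mk _
  have hadd : ∀ a b, a ∈ ℳ (e * δ) → b ∈ ℳ (e * δ) → ok e a → ok e b → ok e (a + b) :=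
    fun a b ha hb h₁ h₂ hm' ↦ by
      refine (congrArg (· ∈ S) (sval_ext fun x hx ↦ ?_ : _ = _)).mpr (add_mem (h₁ ha) (h₂ hb))
      change GrModLib.mk x (a + b) _ _ = GrModLib.mk x a _ _ + GrModLib.mk x b _ _
      rw [GrModLib.mk, GrModLib.mk, GrModLib.mk, LocalizedModule.mk_add_mk, ← smul_add]
      exact (LocalizedModule.mk_cancel_common_left _ _ _).symm
  have hneg : ∀ a, a ∈ ℳ (e * δ) → ok e a → ok e (-a) := fun a ha h₁ hm' ↦ by
    refine (congrArg (· ∈ S) (sval_ext fun x hx ↦ ?_ : _ = _)).mpr (neg_mem (h₁ ha))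
    exact LocalizedModule.mk_neg
  -- every element of the tail
  have hmP : m ∈ Submodule.span A (Set.range y) := htail ▸ mem_tail hk hm
  obtain ⟨c, hc⟩ := (Submodule.mem_span_range_iff_exists_fun A).mp hmP
  suffices H : ∀ s, cpt ℳ (e * δ) (c s • y s) ∈ ℳ (e * δ) ∧ ok e (cpt ℳ (e * δ) (c s • y s)) by
    have h1 : m = ∑ s, cpt ℳ (e * δ) (c s • y s) := by rw [← map_sum, hc, cpt_same hm]
    have h2 : ∑ s, cpt ℳ (e * δ) (c s • y s) ∈ ℳ (e * δ) ∧
        ok e (∑ s, cpt ℳ (e * δ) (c s • y s)) := by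
      refine Finset.sum_induction _ (fun a ↦ a ∈ ℳ (e * δ) ∧ ok e a)
        (fun a b ha hb ↦ ⟨add_mem ha.1 hb.1, hadd a b ha.1 hb.1 ha.2 hb.2⟩)
        ⟨zero_mem _, hzero⟩ fun s _ ↦ H s
    have h3 : ok e m := h1 ▸ h2.2
    exact h3 hm
  intro s
  refine ⟨cpt_mem _ _, ?_⟩
  rw [cpt_smul_right (𝒜 := 𝒜) (hy s)]
  split_ifs with hle
  · have ha := mem_closure_mono hd hg hirr _ _
      (SetLike.coe_mem (decompose 𝒜 (c s) (e * δ - j s)))
    generalize (decompose 𝒜 (c s) (e * δ - j s) : A) = a at ha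
    refine (AddSubgroup.closure_induction
      (p := fun a _ ↦ a • y s ∈ ℳ (e * δ) ∧ ok e (a • y s)) ?_ ?_ ?_ ?_ ha).2
    · rintro z ⟨b, hb, q, hq, rfl⟩
      refine ⟨?_, key s b q hb (by omega)⟩
      have h := SetLike.GradedSMul.smul_mem (SetLike.mul_mem_graded hb (mono_mem hg q)) (hy s)
      rwa [zero_add, vadd_eq_add, hq, Nat.sub_add_cancel hle] at h
    · rw [zero_smul]; exact ⟨zero_mem _, hzero⟩
    · intro a b _ _ ha hb
      rw [add_smul]
      exact ⟨add_mem ha.1 hb.1, hadd _ _ ha.1 hb.1 ha.2 hb.2⟩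
    · intro a _ ha
      rw [neg_smul]
      exact ⟨neg_mem ha.1, hneg _ ha.1 ha.2⟩
  · exact hzero

/-- Elements of high degree lie in high powers of the ideal generated by `T ⊆ A₁`. -/
theorem mem_pow_of_le {T : Set A} (hT : T ⊆ (𝒜 1 : Set A))
    (hirr : ∀ (i : ℕ) (a : A), 0 < i → a ∈ 𝒜 i → a ∈ Ideal.span T) :
    ∀ (N i : ℕ) (a : A), N ≤ i → a ∈ 𝒜 i → a ∈ Ideal.span T ^ N := by
  intro N
  induction N with
  | zero => intro i a _ _; simp
  | succ N ih =>
    intro i a hi ha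
    have h : ∀ b ∈ Ideal.span T, ∀ c : A,
        (decompose 𝒜 (c * b) i : A) ∈ Ideal.span T ^ (N + 1) := by
      intro b hb
      induction hb using Submodule.span_induction with
      | mem t ht =>
        intro c
        rw [coe_decompose_mul_of_right_mem 𝒜 i (hT ht), if_pos (by omega), pow_succ]
        exact Ideal.mul_mem_mul (ih _ _ (by omega) (SetLike.coe_mem _)) (Ideal.subset_span ht)
      | zero => intro c; simp
      | add p q _ _ hp hq =>
        intro c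
        rw [mul_add, decompose_add, DFinsupp.add_apply, Submodule.coe_add]
        exact add_mem (hp c) (hq c)
      | smul r p _ hp =>
        intro c
        rw [smul_eq_mul, ← mul_assoc]
        exact hp _
    have := h a (hirr i a (by omega) ha) 1
    rwa [one_mul, decompose_of_mem_same 𝒜 ha] at this

/-- `M~ = 0` iff the tail vanishes. -/
theorem isZero_tilde_iff (hfg : (HomogeneousIdeal.irrelevant 𝒜).toIdeal.FG)
    (hgen : (HomogeneousIdeal.irrelevant 𝒜).toIdeal = Ideal.span (𝒜 1 : Set A))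
    (hTF : ∃ k : ℕ, (tail (A := A) ℳ k).FG) :
    IsZero (GrTilde.tilde 𝒜 ℳ 0) ↔ ∃ n : ℕ, ∀ k : ℕ, n ≤ k → ℳ k = ⊥ := by
  classical
  constructor
  · intro h
    obtain ⟨k₀, hk₀⟩ := hTF
    obtain ⟨E, r, y, j, hj, hy, htail⟩ := exists_tail_gens 𝒜 hk₀
    obtain ⟨T, hT1, hT⟩ := Submodule.fg_span_iff_fg_span_finset_subset (𝒜 1 : Set A) |>.mp
      (show (Ideal.span (𝒜 1 : Set A)).FG from hgen.symm ▸ hfg)
    set J : Ideal A := (Submodule.span A (Set.range y)).annihilator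
    have hTJ : Ideal.span (T : Set A) ≤ J.radical := Ideal.span_le.mpr fun t ht ↦ by
      have h1 := fun s ↦ exists_pow_smul_eq_zero_of_isZero hgen h (y s) one_pos (hT1 ht)
      choose K hK using h1
      refine ⟨Finset.univ.sup K, ?_⟩
      rw [Submodule.mem_annihilator_span]
      rintro ⟨_, s, rfl⟩
      rw [← Nat.sub_add_cancel (Finset.le_sup (f := K) (Finset.mem_univ s)), pow_add, mul_smul,
        hK, smul_zero]
    obtain ⟨N, hN⟩ := Ideal.exists_pow_le_of_le_radical_of_fg hTJ ⟨T, rfl⟩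
    have hirr : ∀ (i : ℕ) (a : A), 0 < i → a ∈ 𝒜 i → a ∈ Ideal.span (T : Set A) := by
      intro i a hi ha
      have h1 : a ∈ Ideal.span (𝒜 1 : Set A) :=
        hgen ▸ (HomogeneousIdeal.mem_irrelevant_of_mem 𝒜 hi ha :
          a ∈ (HomogeneousIdeal.irrelevant 𝒜).toIdeal)
      exact hT.le h1
    refine ⟨k₀ + E + N, fun k hk ↦ (Submodule.eq_bot_iff _).mpr fun m hm ↦ ?_⟩
    obtain ⟨c, hc⟩ := (Submodule.mem_span_range_iff_exists_fun A).mp
      (htail ▸ mem_tail (A := A) (by omega : k₀ ≤ k) hm)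
    rw [← cpt_same hm, ← hc, map_sum]
    refine Finset.sum_eq_zero fun s _ ↦ ?_
    rw [cpt_smul_right (𝒜 := 𝒜) (hy s), if_pos (by have := hj s; omega)]
    exact Submodule.mem_annihilator.mp
      (hN (mem_pow_of_le hT1 hirr N _ _ (by have := hj s; omega) (SetLike.coe_mem _)))
      _ (Submodule.subset_span ⟨s, rfl⟩)
  · rintro ⟨n, hn⟩
    refine isZero_tilde 0 fun z d f hd hf ↦ ⟨n, ?_⟩
    induction z using DirectSum.Decomposition.inductionOn ℳ with
    | zero => exact smul_zero _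
    | add a b ha hb => rw [smul_add, ha, hb, add_zero]
    | homogeneous w =>
      rename_i i
      have h := SetLike.GradedSMul.smul_mem (pow_mem_deg hf n) w.2
      rw [vadd_eq_add, hn (n * d + i) (by nlinarith)] at h
      exact (Submodule.mem_bot R).mp h

end Groth.Agent.ProjTilde
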