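import Groth.Agent.ProjTilde.Glue
import Groth.Agent.ProjTwist.Quotient
import Groth.Agent.GrModLib.Grading
import Mathlib.Algebra.Polynomial.Module.Basic

/-!
A graded module `M` with `M~ ≅ F`, for `F` quasi-coherent on `Proj` covered by `D₊(g l)`, `deg (g l) = 1`:
the degree `t` part consists of the compatible families `σ l ∈ Γ(F, D₊(g l))`.
-/

universe u

open CategoryTheory CategoryTheory.Limits AlgebraicGeometry TopologicalSpace Opposite

noncomputable section

namespace Groth.Agent.ProjTilde

open GrModLib DirectSum Groth.Agent.QCoh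

variable {R A : Type u} [CommRing R] [CommRing A] [Algebra R A] {𝒜 : ℕ → Submodule R A}
  [GradedAlgebra 𝒜]
variable {r : ℕ} (g : Fin r → A) (hg : ∀ l, g l ∈ 𝒜 1) (F : (Proj 𝒜).Modules)

variable (𝒜) in
/-- The product of the rings of functions on the charts. -/
abbrev Fun : Type u := ∀ l : Fin r, Γ(Proj 𝒜, Proj.basicOpen 𝒜 (g l))

/-- The product of the sections on the charts. -/
abbrev Sec : Type u := ∀ l : Fin r, Γ(F, Proj.basicOpen 𝒜 (g l))

/-- `a ↦ (a / g l ^ k)_l` on the degree `k` part. -/
def ratioHom (k : ℕ) : 𝒜 k →+ Fun 𝒜 g :=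
  AddMonoidHom.mk' (fun a l ↦ ProjTwist.fracFun a.2 (pow_mem_one (hg l) k) (le_pow le_rfl k))
    fun a b ↦ funext fun l ↦ ProjTwist.valAt_ext fun x hx ↦ by
      change ProjTwist.valAt (ProjTwist.fracFun _ _ _) x hx =
        ProjTwist.valAt (ProjTwist.fracFun _ _ _ + ProjTwist.fracFun _ _ _) x hx
      rw [ProjTwist.valAt_add, ProjTwist.valAt_fracFun, ProjTwist.valAt_fracFun,
        ProjTwist.valAt_fracFun, Localization.add_mk_self]
      rfl

/-- The graded ring map `A ⟶ Fun[T]`. -/
def theta : A →+* Polynomial (Fun 𝒜 g) :=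
  (DirectSum.toSemiring (fun k ↦ (Polynomial.monomial k).toAddMonoidHom.comp (ratioHom g hg k))
    (by
      change Polynomial.monomial 0 _ = 1
      rw [← Polynomial.monomial_zero_one]
      congr 1
      funext l
      simp only [ratioHom, AddMonoidHom.mk'_apply, Pi.one_apply]
      refine (fracFun_eq _ (pow_mem_one (hg l) 0) (pow_mem_one (hg l) 0) (pow_mem_one (hg l) 0)
        (le_pow le_rfl 0) (le_pow le_rfl 0) ?_).trans (ProjTwist.fracFun_self _ _)
      simp only [pow_zero, mul_one]
      rfl)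
    (fun {i j} a b ↦ by
      change Polynomial.monomial (i + j) _ = Polynomial.monomial i _ * Polynomial.monomial j _
      rw [Polynomial.monomial_mul_monomial]
      congr 1
      funext l
      simp only [ratioHom, AddMonoidHom.mk'_apply, Pi.mul_apply]
      refine Eq.trans ?_ (fracFun_mul a.2 (pow_mem_one (hg l) i) b.2 (pow_mem_one (hg l) j)
        (le_pow le_rfl i) (le_pow le_rfl j)).symm
      exact fracFun_eq _ _ _ _ _ _ (by rw [← pow_add]; rfl))).comp
    (decomposeRingEquiv 𝒜).toRingHom

lemma theta_of_mem {k : ℕ} {a : A} (ha : a ∈ 𝒜 k) :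
    theta g hg a = Polynomial.monomial k (fun l ↦
      ProjTwist.fracFun ha (pow_mem_one (hg l) k) (le_pow le_rfl k)) := by
  rw [theta, RingHom.comp_apply]
  change DirectSum.toSemiring _ _ _ (decompose 𝒜 a) = _
  rw [decompose_of_mem 𝒜 ha, DirectSum.toSemiring_of]
  rfl

/-- The ambient module. -/
@[nolint unusedArguments]
def Amb (_hg : ∀ l, g l ∈ 𝒜 1) : Type u := PolynomialModule (Fun 𝒜 g) (Sec g F)

instance : AddCommGroup (Amb g F hg) :=
  inferInstanceAs (AddCommGroup (PolynomialModule (Fun 𝒜 g) (Sec g F)))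

instance : Module A (Amb g F hg) :=
  Module.compHom (PolynomialModule (Fun 𝒜 g) (Sec g F)) (theta g hg)

instance : Module R (Amb g F hg) := Module.compHom (Amb g F hg) (algebraMap R A)

instance : IsScalarTower R A (Amb g F hg) :=
  ⟨fun r a v ↦ by
    change (r • a) • v = algebraMap R A r • (a • v)
    rw [Algebra.smul_def, mul_smul]⟩

variable {g hg F}

/-- The coefficient in degree `n`. -/
def coe' (v : Amb g F hg) (n : ℕ) : Sec g F :=
  PolynomialModule.coeff (R := Fun 𝒜 g) v n

lemma coe'_ext {v w : Amb g F hg} (h : ∀ n, coe' v n = coe' w n) : v = w :=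
  PolynomialModule.coeff_injective (Finsupp.ext h)

lemma coe'_add (v w : Amb g F hg) (n : ℕ) : coe' (v + w) n = coe' v n + coe' w n := rfl

lemma coe'_zero (n : ℕ) : coe' (0 : Amb g F hg) n = 0 := rfl

lemma coe'_smul {k : ℕ} {a : A} (ha : a ∈ 𝒜 k) (v : Amb g F hg) (n : ℕ) (l : Fin r) :
    coe' (a • v) n l = if k ≤ n then
      ProjTwist.fracFun ha (pow_mem_one (hg l) k) (le_pow le_rfl k) • coe' v (n - k) l else 0 := by
  change PolynomialModule.coeff
    (theta g hg a • (show PolynomialModule (Fun 𝒜 g) (Sec g F) from v)) n l = _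
  rw [theta_of_mem g hg ha, PolynomialModule.monomial_smul_apply]
  split_ifs <;> rfl

/-- Compatibility of a family in degree `t`. -/
def Compat (hg : ∀ l, g l ∈ 𝒜 1) (t : ℕ) (σ : Sec g F) : Prop :=
  ∀ i j : Fin r,
    res F (inf_le_left : Proj.basicOpen 𝒜 (g i) ⊓ Proj.basicOpen 𝒜 (g j) ≤ _) (σ i) =
      ProjTwist.fracFun (hg j) (hg i)
          (inf_le_left : Proj.basicOpen 𝒜 (g i) ⊓ Proj.basicOpen 𝒜 (g j) ≤ _) ^ t •
        res F (inf_le_right : Proj.basicOpen 𝒜 (g i) ⊓ Proj.basicOpen 𝒜 (g j) ≤ _) (σ j)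

lemma compat_zero (t : ℕ) : Compat hg t (0 : Sec g F) := fun i j ↦ by
  simp only [Pi.zero_apply, map_zero, smul_zero]

lemma compat_add {t : ℕ} {σ τ : Sec g F} (h : Compat hg t σ) (h' : Compat hg t τ) :
    Compat hg t (σ + τ) := fun i j ↦ by
  simp only [Pi.add_apply, map_add, h i j, h' i j, smul_add]

lemma compat_smul {t k : ℕ} {a : A} (ha : a ∈ 𝒜 k) {σ : Sec g F} (h : Compat hg t σ) :
    Compat hg (k + t)
      (fun l ↦ ProjTwist.fracFun ha (pow_mem_one (hg l) k) (le_pow le_rfl k) • σ l) := fun i j ↦ by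
  set W := Proj.basicOpen 𝒜 (g i) ⊓ Proj.basicOpen 𝒜 (g j)
  simp only [res_smul, h i j, smul_smul]
  congr 1
  have hi : W ≤ Proj.basicOpen 𝒜 (g i) := inf_le_left
  have hj : W ≤ Proj.basicOpen 𝒜 (g j) := inf_le_right
  refine (congrArg (· * _) (ProjTwist.fracFun_res hi ha (pow_mem_one (hg i) k) _)).trans ?_
  refine Eq.trans ?_ (congrArg (_ * ·) (ProjTwist.fracFun_res hj ha (pow_mem_one (hg j) k) _)).symm
  rw [ProjTwist.fracFun_pow (hg j) (hg i) hi t (le_pow hi t),
    ProjTwist.fracFun_pow (hg j) (hg i) hi (k + t) (le_pow hi (k + t)), fracFun_mul, fracFun_mul]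
  exact fracFun_eq _ _ _ _ _ _ (by ring)

variable (g hg F) in
/-- The compatible families. -/
def gs : Submodule A (Amb g F hg) where
  carrier := {v | ∀ t, Compat hg t (coe' v t)}
  zero_mem' t := by rw [coe'_zero]; exact compat_zero t
  add_mem' {v w} hv hw t := by rw [coe'_add]; exact compat_add (hv t) (hw t)
  smul_mem' a v hv := by
    induction a using DirectSum.Decomposition.inductionOn 𝒜 with
    | zero => intro t; rw [zero_smul, coe'_zero]; exact compat_zero t
    | add b c hb hc => intro t; rw [add_smul, coe'_add]; exact compat_add (hb t) (hc t)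
    | homogeneous b =>
      rename_i k
      intro n
      by_cases hkn : k ≤ n
      · obtain ⟨t, rfl⟩ := Nat.exists_eq_add_of_le hkn
        rw [show coe' ((b : A) • v) (k + t) = fun l ↦
            ProjTwist.fracFun b.2 (pow_mem_one (hg l) k) (le_pow le_rfl k) • coe' v t l from
          funext fun l ↦ by rw [coe'_smul b.2, if_pos hkn, Nat.add_sub_cancel_left]]
        exact compat_smul b.2 (hv t)
      · rw [show coe' ((b : A) • v) n = 0 from
          funext fun l ↦ by rw [coe'_smul b.2, if_neg hkn]; rfl]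
        exact compat_zero n

/-- The element concentrated in degree `t`. -/
def single' (t : ℕ) (σ : Sec g F) : Amb g F hg :=
  PolynomialModule.single (Fun 𝒜 g) t σ

lemma coe'_single' (t : ℕ) (σ : Sec g F) (n : ℕ) :
    coe' (single' (hg := hg) t σ) n = if t = n then σ else 0 := by
  classical
  change (PolynomialModule.single (Fun 𝒜 g) t σ).coeff n = _
  rw [PolynomialModule.coeff_single, Finsupp.single_apply]

lemma single'_mem {t : ℕ} {σ : Sec g F} (h : Compat hg t σ) : single' t σ ∈ gs g hg F := fun n ↦ by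
  rw [coe'_single']
  split_ifs with e
  · exact e ▸ h
  · exact compat_zero n

lemma coe'_smul_R (c : R) (v : Amb g F hg) (n : ℕ) (l : Fin r) :
    coe' (c • v) n l = ProjTwist.fracFun (SetLike.algebraMap_mem_graded 𝒜 c)
      (pow_mem_one (hg l) 0) (le_pow le_rfl 0) • coe' v n l := by
  change coe' (algebraMap R A c • v) n l = _
  rw [coe'_smul (SetLike.algebraMap_mem_graded 𝒜 c), if_pos (Nat.zero_le n), Nat.sub_zero]

variable (g hg F) in
/-- The grading. -/
def gsGr (t : ℕ) : Submodule R (gs g hg F) where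
  carrier := {v | ∀ n, n ≠ t → coe' v.1 n = 0}
  zero_mem' n _ := coe'_zero n
  add_mem' {v w} hv hw n hn := by
    rw [Submodule.coe_add, coe'_add, hv n hn, hw n hn, add_zero]
  smul_mem' c v hv n hn := funext fun l ↦ by
    change coe' (c • v.1) n l = 0
    rw [coe'_smul_R, hv n hn, Pi.zero_apply, smul_zero]

variable (g hg F) in
/-- The projection to degree `t`. -/
def gsProj (t : ℕ) : gs g hg F →ₗ[R] gs g hg F where
  toFun v := ⟨single' t (coe' v.1 t), single'_mem (v.2 t)⟩
  map_add' v w := Subtype.ext (coe'_ext fun n ↦ by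
    simp only [Submodule.coe_add, coe'_add, coe'_single']
    split_ifs <;> simp)
  map_smul' c v := Subtype.ext (coe'_ext fun n ↦ funext fun l ↦ by
    change coe' (single' t (coe' (c • v.1) t)) n l = coe' (c • single' t (coe' v.1 t)) n l
    rw [coe'_smul_R, coe'_single', coe'_single']
    split_ifs with e
    · subst e; rw [coe'_smul_R]
    · simp)

lemma gsProj_val (t : ℕ) (v : gs g hg F) :
    (gsProj g hg F t v).1 = single' t (coe' v.1 t) := rfl

instance gsDecomposition : DirectSum.Decomposition (gsGr g hg F) :=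
  GrModLib.decompositionOfProj _ (gsProj g hg F)
    (fun i v hv ↦ Subtype.ext (coe'_ext fun n ↦ by
      rw [gsProj_val, coe'_single']
      split_ifs with e
      · rw [e]
      · rw [hv n (Ne.symm e)]))
    (fun i k hk v hv ↦ Subtype.ext (coe'_ext fun n ↦ by
      rw [gsProj_val, coe'_single', hv i (Ne.symm hk)]
      split_ifs <;> exact (coe'_zero n).symm))
    (fun v ↦ by
      classical
      let s := (PolynomialModule.coeff (R := Fun 𝒜 g) v.1).support
      have hv : v = ∑ t ∈ s, gsProj g hg F t v := by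
        refine Subtype.ext (coe'_ext fun n ↦ ?_)
        have h : ∀ (S : Finset ℕ),
            coe' (∑ t ∈ S, gsProj g hg F t v).1 n = if n ∈ S then coe' v.1 n else 0 := by
          intro S
          induction S using Finset.induction_on with
          | empty => simp; rfl
          | insert a S ha ih =>
            rw [Finset.sum_insert ha, Submodule.coe_add, coe'_add, ih, gsProj_val, coe'_single']
            by_cases e : a = n
            · subst e
              simp [ha]
            · simp [e, Ne.symm e]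
        rw [h]
        split_ifs with e
        · rfl
        · exact Finsupp.notMem_support_iff.mp e
      rw [hv]
      refine Submodule.sum_mem _ fun t _ ↦ Submodule.mem_iSup_of_mem t fun n hn ↦ ?_
      rw [gsProj_val, coe'_single', if_neg (Ne.symm hn)])

instance gsGradedSMul : SetLike.GradedSMul 𝒜 (gsGr g hg F) where
  smul_mem {k t a v} ha hv n hn := funext fun l ↦ by
    change coe' (a • v.1) n l = 0
    rw [coe'_smul ha]
    split_ifs with hle
    · rw [hv (n - k) (by simp only [vadd_eq_add] at hn; omega), Pi.zero_apply, smul_zero]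
    · rfl

variable (g hg F) in
/-- The evaluation maps. -/
def gsMaps : ChartMaps (gsGr g hg F) F g hg where
  val l t := AddMonoidHom.mk' (fun v ↦ coe' v.1.1 t l) fun _ _ ↦ rfl
  smul l k t a ha v := by
    change coe' (a • v.1.1) (k + t) l = _
    rw [coe'_smul ha, if_pos (Nat.le_add_right k t), Nat.add_sub_cancel_left]
    rfl
  compat i j t v := v.1.2 t i j

variable [F.IsQuasicoherent]

lemma gs_surj (l : Fin r) (s : Γ(F, Proj.basicOpen 𝒜 (g l))) :
    ∃ (t : ℕ) (v : gsGr g hg F t), (gsMaps g hg F).val l t v = s := by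
  obtain ⟨m, D, hD⟩ := ProjTwist.exists_twistData g hg one_pos F l s
  refine ⟨m, ⟨⟨single' m D.σ, single'_mem D.compat⟩, fun n hn ↦ ?_⟩, ?_⟩
  · rw [coe'_single', if_neg (Ne.symm hn)]
  · change coe' (single' (hg := hg) m D.σ) m l = s
    rw [coe'_single', if_pos rfl, hD]

lemma gs_inj (l : Fin r) (t : ℕ) (v : gsGr g hg F t)
    (hv : (gsMaps g hg F).val l t v = 0) : ∃ N : ℕ, g l ^ N • (v : gs g hg F) = 0 := by
  have key : ∀ j : Fin r, ∃ N, ProjTwist.fracFun (hg l) (hg j) (le_refl (Proj.basicOpen 𝒜 (g j))) ^ N •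
      coe' v.1.1 t j = 0 := fun j ↦ by
    refine (isLocalizingAt F (Proj.isAffineOpen_basicOpen 𝒜 _ (hg j) one_pos) _).eq_zero _ ?_
    have hle := (ProjTwist.basicOpen_fracFun (hg l) (hg j) (le_refl (Proj.basicOpen 𝒜 (g j)))).le
    have e := congrArg (res F hle) (v.1.2 t j l)
    rw [res_smul, res_res, res_res, show coe' v.1.1 t l = 0 from hv, map_zero, smul_zero] at e
    exact e
  choose N hN using key
  let N' := Finset.univ.sup N
  refine ⟨N', Subtype.ext (coe'_ext fun n ↦ funext fun j ↦ ?_)⟩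
  change coe' (g l ^ N' • v.1.1) n j = 0
  rw [coe'_smul (pow_mem_one (hg l) N')]
  split_ifs with hle
  · by_cases hnt : n - N' = t
    · rw [hnt]
      refine (congrArg (· • coe' v.1.1 t j)
        ((fracFun_eq _ _ _ _ _ (le_pow le_rfl N') rfl).trans
          (ProjTwist.fracFun_pow (hg l) (hg j) le_rfl N' (le_pow le_rfl N')).symm)).trans ?_
      have hNj : N j ≤ N' := Finset.le_sup (f := N) (Finset.mem_univ j)
      rw [← Nat.sub_add_cancel hNj, pow_add, mul_smul, hN j, smul_zero]
    · rw [v.2 _ hnt, Pi.zero_apply, smul_zero]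
  · rfl

/-- `Γ_*(F)~ ≅ F`. -/
theorem exists_gs_iso (hcov : ⊤ ≤ ⨆ l, Proj.basicOpen 𝒜 (g l)) :
    IsIso ((gsMaps g hg F).hom hcov) :=
  (gsMaps g hg F).isIso_hom hcov gs_inj gs_surj

end Groth.Agent.ProjTilde
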