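import Groth.Agent.ProjTilde.Twists
import Groth.Agent.ProjTilde.Epi

/-!
Powers of degree one elements as global sections of twists.
-/

universe u

open CategoryTheory CategoryTheory.Limits AlgebraicGeometry TopologicalSpace Opposite

noncomputable section

namespace Groth.Agent.ProjTilde

open GrModLib DirectSum Groth.Agent.QCoh Groth.Agent.Props.GenLocus

variable {R A : Type u} [CommRing R] [CommRing A] [Algebra R A] {𝒜 : ℕ → Submodule R A}
  [GradedAlgebra 𝒜]

lemma isGen_of_tval_eq {l l' : ℤ} (h : l = l') {U : (Proj 𝒜).Opens}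
    {s : Γ(Twist.twist 𝒜 l, U)} {t : Γ(Twist.twist 𝒜 l', U)}
    (ht : ∀ x hx, tval s x hx = tval t x hx) (hs : IsGen (Twist.twist 𝒜 l) U s) :
    IsGen (Twist.twist 𝒜 l') U t := by
  subst h
  rwa [← tval_ext ht]

variable (𝒜) in
/-- `f ^ n` as a global section of `O(n)`. -/
def powSec {f : A} (hf : f ∈ 𝒜 1) (n : ℕ) : Γ(Twist.twist 𝒜 (n : ℤ), ⊤) :=
  Twist.globalOf 𝒜 (i := n) ⟨f ^ n, by simpa using SetLike.pow_mem_graded n hf⟩

/-- `f ^ n` generates `O(n)` on `D₊(f)`. -/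
theorem isGen_powSec {f : A} (hf : f ∈ 𝒜 1) (n : ℕ) {U : (Proj 𝒜).Opens}
    (hU : U ≤ Proj.basicOpen 𝒜 f) :
    IsGen (Twist.twist 𝒜 (n : ℤ)) U (res _ le_top (powSec 𝒜 hf n)) := by
  have hU' : U ≤ Proj.basicOpen 𝒜 (f * 1) := by rwa [mul_one]
  refine isGen_of_tval_eq (show (n : ℤ) * ((1 : ℕ) : ℤ) = n by simp) (fun x hx ↦ ?_)
    (isGen_frame hf SetLike.GradedOne.one_mem (zero_add 1).symm (n : ℤ) hU')
  change Localization.mk _ _ = Localization.mk _ _
  congr 1
  · simp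
  · exact Subtype.ext (by simp)

end Groth.Agent.ProjTilde
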