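import Groth.Agent.ProjTilde.QC
import Groth.Agent.ProjTilde.AffIso
import Groth.Agent.GrModLib.Alpha

/-!
Morphisms `M~ ⟶ F` from compatible families of maps `M_t ⟶ Γ(F, D₊(g_l))`.
-/

universe u w

open CategoryTheory CategoryTheory.Limits AlgebraicGeometry TopologicalSpace Opposite

noncomputable section

namespace Groth.Agent.ProjTilde

open GrModLib DirectSum Groth.Agent.QCoh

variable {R A : Type u} [CommRing R] [CommRing A] [Algebra R A] {𝒜 : ℕ → Submodule R A}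
  [GradedAlgebra 𝒜]

/-- `D₊(f) ≤ D₊(f ^ k)`. -/
lemma le_pow {U : (Proj 𝒜).Opens} {f : A} (h : U ≤ Proj.basicOpen 𝒜 f) (k : ℕ) :
    U ≤ Proj.basicOpen 𝒜 (f ^ k) := fun _ hx ↦ pow_nin (h hx) k

lemma le_mul {U : (Proj 𝒜).Opens} {a b : A} (ha : U ≤ Proj.basicOpen 𝒜 a)
    (hb : U ≤ Proj.basicOpen 𝒜 b) : U ≤ Proj.basicOpen 𝒜 (a * b) :=
  fun _ hx ↦ mul_nin (ha hx) (hb hx)

lemma pow_mem_one {f : A} (hf : f ∈ 𝒜 1) (k : ℕ) : f ^ k ∈ 𝒜 k := by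
  simpa using SetLike.pow_mem_graded k hf

lemma fracFun_eq {U : (Proj 𝒜).Opens} {k k' : ℕ} {a b a' b' : A} (ha : a ∈ 𝒜 k) (hb : b ∈ 𝒜 k)
    (ha' : a' ∈ 𝒜 k') (hb' : b' ∈ 𝒜 k') (h : U ≤ Proj.basicOpen 𝒜 b)
    (h' : U ≤ Proj.basicOpen 𝒜 b') (e : a * b' = a' * b) :
    ProjTwist.fracFun ha hb h = ProjTwist.fracFun ha' hb' h' :=
  ProjTwist.valAt_ext fun x hx ↦ by
    rw [ProjTwist.valAt_fracFun, ProjTwist.valAt_fracFun, Localization.mk_eq_mk_iff,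
      Localization.r_iff_exists]
    exact ⟨1, by simp only [OneMemClass.coe_one, one_mul]; rw [mul_comm b' a, mul_comm b a']; exact e⟩

lemma fracFun_mul {U : (Proj 𝒜).Opens} {k k' : ℕ} {a b a' b' : A} (ha : a ∈ 𝒜 k) (hb : b ∈ 𝒜 k)
    (ha' : a' ∈ 𝒜 k') (hb' : b' ∈ 𝒜 k') (h : U ≤ Proj.basicOpen 𝒜 b)
    (h' : U ≤ Proj.basicOpen 𝒜 b') :
    ProjTwist.fracFun ha hb h * ProjTwist.fracFun ha' hb' h' =
      ProjTwist.fracFun (SetLike.mul_mem_graded ha ha') (SetLike.mul_mem_graded hb hb')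
        (le_mul h h') :=
  ProjTwist.valAt_ext fun x hx ↦ by
    rw [ProjTwist.valAt_mul, ProjTwist.valAt_fracFun, ProjTwist.valAt_fracFun,
      ProjTwist.valAt_fracFun, Localization.mk_mul]
    rfl

lemma isUnit_fracFun {U : (Proj 𝒜).Opens} {k : ℕ} {a b : A} (ha : a ∈ 𝒜 k) (hb : b ∈ 𝒜 k)
    (h : U ≤ Proj.basicOpen 𝒜 b) (h' : U ≤ Proj.basicOpen 𝒜 a) :
    IsUnit (ProjTwist.fracFun ha hb h) :=
  .of_mul_eq_one _ (by rw [ProjTwist.fracFun_mul_fracFun ha hb ha h h', ProjTwist.fracFun_self])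

variable {M : Type u} [AddCommGroup M] [Module R M] [Module A M] {ℳ : ℕ → Submodule R M}
  [SetLike.GradedSMul 𝒜 ℳ]
variable {ι : Type w} {g : ι → A} {hg : ∀ l, g l ∈ 𝒜 1} {F : (Proj 𝒜).Modules}

variable (ℳ F) in
/-- Compatible maps `M_t ⟶ Γ(F, D₊(g l))`. -/
structure ChartMaps (g : ι → A) (hg : ∀ l, g l ∈ 𝒜 1) where
  /-- the maps -/
  val : ∀ (l : ι) (t : ℕ), ℳ t →+ Γ(F, Proj.basicOpen 𝒜 (g l))
  smul : ∀ (l : ι) (k t : ℕ) (a : A) (ha : a ∈ 𝒜 k) (m : ℳ t),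
    val l (k + t) ⟨a • m.1, SetLike.GradedSMul.smul_mem ha m.2⟩ =
      ProjTwist.fracFun ha (pow_mem_one (hg l) k) (le_pow le_rfl k) • val l t m
  compat : ∀ (i j : ι) (t : ℕ) (m : ℳ t),
    res F (inf_le_left : Proj.basicOpen 𝒜 (g i) ⊓ Proj.basicOpen 𝒜 (g j) ≤ _) (val i t m) =
      ProjTwist.fracFun (hg j) (hg i)
          (inf_le_left : Proj.basicOpen 𝒜 (g i) ⊓ Proj.basicOpen 𝒜 (g j) ≤ _) ^ t •
        res F (inf_le_right : Proj.basicOpen 𝒜 (g i) ⊓ Proj.basicOpen 𝒜 (g j) ≤ _) (val j t m)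

namespace ChartMaps

variable (C : ChartMaps ℳ F g hg)

/-- The image of `m / h` over `W ⊆ D₊(h) ⊓ D₊(g l)`. -/
def ev (l : ι) {t : ℕ} (m : ℳ t) {h : A} (hh : h ∈ 𝒜 t) {W : (Proj 𝒜).Opens}
    (hWh : W ≤ Proj.basicOpen 𝒜 h) (hWl : W ≤ Proj.basicOpen 𝒜 (g l)) : Γ(F, W) :=
  ProjTwist.fracFun (pow_mem_one (hg l) t) hh hWh • res F hWl (C.val l t m)

lemma res_ev (l : ι) {t : ℕ} (m : ℳ t) {h : A} (hh : h ∈ 𝒜 t) {W W' : (Proj 𝒜).Opens}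
    (hW : W' ≤ W) (hWh : W ≤ Proj.basicOpen 𝒜 h) (hWl : W ≤ Proj.basicOpen 𝒜 (g l)) :
    res F hW (C.ev l m hh hWh hWl) = C.ev l m hh (hW.trans hWh) (hW.trans hWl) := by
  rw [ev, res_smul, res_res]
  rfl

lemma ev_add (l : ι) {t : ℕ} (m m' : ℳ t) {h : A} (hh : h ∈ 𝒜 t) {W : (Proj 𝒜).Opens}
    (hWh : W ≤ Proj.basicOpen 𝒜 h) (hWl : W ≤ Proj.basicOpen 𝒜 (g l)) :
    C.ev l (m + m') hh hWh hWl = C.ev l m hh hWh hWl + C.ev l m' hh hWh hWl := by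
  rw [ev, ev, ev, map_add, map_add, smul_add]

lemma ev_smul (l : ι) {k t : ℕ} (m : ℳ t) {h a b : A} (hh : h ∈ 𝒜 t) (ha : a ∈ 𝒜 k)
    (hb : b ∈ 𝒜 k) {W : (Proj 𝒜).Opens}
    (hWh : W ≤ Proj.basicOpen 𝒜 h) (hWb : W ≤ Proj.basicOpen 𝒜 b)
    (hWl : W ≤ Proj.basicOpen 𝒜 (g l)) :
    C.ev l (⟨a • m.1, SetLike.GradedSMul.smul_mem ha m.2⟩ : ℳ (k + t))
        (SetLike.mul_mem_graded hb hh) (le_mul hWb hWh) hWl =
      ProjTwist.fracFun ha hb hWb • C.ev l m hh hWh hWl := by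
  rw [ev, ev, C.smul l k t a ha m, res_smul, smul_smul, smul_smul]
  congr 1
  refine (congrArg (_ * ·) (ProjTwist.fracFun_res hWl ha _ _)).trans ?_
  rw [fracFun_mul, fracFun_mul]
  exact fracFun_eq _ _ _ _ _ _ (by ring)

lemma ev_chart (i j : ι) {t : ℕ} (m : ℳ t) {h : A} (hh : h ∈ 𝒜 t) {W : (Proj 𝒜).Opens}
    (hWh : W ≤ Proj.basicOpen 𝒜 h) (hi : W ≤ Proj.basicOpen 𝒜 (g i))
    (hj : W ≤ Proj.basicOpen 𝒜 (g j)) : C.ev i m hh hWh hi = C.ev j m hh hWh hj := by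
  have e := congrArg (res F (le_inf hi hj)) (C.compat i j t m)
  rw [res_smul, res_res, res_res] at e
  rw [ev, ev, e, smul_smul]
  congr 1
  rw [map_pow]
  refine (congrArg (fun z ↦ _ * z ^ t) (ProjTwist.fracFun_res (le_inf hi hj) (hg j) (hg i) _)).trans ?_
  rw [ProjTwist.fracFun_pow (hg j) (hg i) hi t (le_pow hi t), fracFun_mul]
  exact fracFun_eq _ _ _ _ _ _ (by ring)

variable [DirectSum.Decomposition ℳ]

/-- Equal fractions have equal images near the point. -/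
lemma exists_ev_eq (l : ι) {t t' : ℕ} (m : ℳ t) (m' : ℳ t') {h h' : A} (hh : h ∈ 𝒜 t)
    (hh' : h' ∈ 𝒜 t') {W : (Proj 𝒜).Opens} (hWh : W ≤ Proj.basicOpen 𝒜 h)
    (hWh' : W ≤ Proj.basicOpen 𝒜 h') (hWl : W ≤ Proj.basicOpen 𝒜 (g l))
    (x : ProjectiveSpectrum 𝒜) (hx : x ∈ W)
    (e : GrModLib.mk x m.1 h (hWh hx) = GrModLib.mk x m'.1 h' (hWh' hx)) :
    ∃ (W' : (Proj 𝒜).Opens) (hW' : W' ≤ W), x ∈ W' ∧
      C.ev l m hh (hW'.trans hWh) (hW'.trans hWl) =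
        C.ev l m' hh' (hW'.trans hWh') (hW'.trans hWl) := by
  obtain ⟨c, hc, hce⟩ := mk_eq_mk_iff.mp e
  obtain ⟨k, hk⟩ : ∃ k, (decompose 𝒜 c k : A) ∉ x.asHomogeneousIdeal := by
    by_contra! hall
    classical
    refine hc ?_
    rw [← DirectSum.sum_support_decompose 𝒜 c]
    exact Ideal.sum_mem _ fun k _ ↦ hall k
  have hmem : h' • m.1 - h • m'.1 ∈ ℳ (t' + t) :=
    sub_mem (SetLike.GradedSMul.smul_mem hh' m.2)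
      (add_comm t t' ▸ SetLike.GradedSMul.smul_mem hh m'.2)
  have hz := GrModLib.mem_annOf.mp
    ((isHomogeneous_annOf (𝒜 := 𝒜) hmem) k (GrModLib.mem_annOf.mpr hce))
  set ck := (decompose 𝒜 c k : A)
  have hck : ck ∈ 𝒜 k := SetLike.coe_mem _
  rw [smul_sub, sub_eq_zero, ← mul_smul, ← mul_smul] at hz
  refine ⟨W ⊓ Proj.basicOpen 𝒜 ck, inf_le_left, ⟨hx, hk⟩, ?_⟩
  have hW1 : W ⊓ Proj.basicOpen 𝒜 ck ≤ Proj.basicOpen 𝒜 ck := inf_le_right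
  have hW0 : W ⊓ Proj.basicOpen 𝒜 ck ≤ W := inf_le_left
  have hA := C.ev_smul l m hh (SetLike.mul_mem_graded hck hh') (SetLike.mul_mem_graded hck hh')
    (hW0.trans hWh) (le_mul hW1 (hW0.trans hWh')) (hW0.trans hWl)
  have hB := C.ev_smul l m' hh' (SetLike.mul_mem_graded hck hh) (SetLike.mul_mem_graded hck hh)
    (hW0.trans hWh') (le_mul hW1 (hW0.trans hWh)) (hW0.trans hWl)
  rw [ProjTwist.fracFun_self, one_smul] at hA hB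
  rw [← hA, ← hB]
  have key : ∀ {p q : ℕ} (epq : p = q) (u : ℳ p) (v : ℳ q) (huv : u.1 = v.1) {d d' : A}
      (hd : d ∈ 𝒜 p) (hd' : d' ∈ 𝒜 q) (hdd : d = d') {V : (Proj 𝒜).Opens}
      (h₁ : V ≤ Proj.basicOpen 𝒜 d) (h₂ : V ≤ Proj.basicOpen 𝒜 d')
      (h₃ : V ≤ Proj.basicOpen 𝒜 (g l)), C.ev l u hd h₁ h₃ = C.ev l v hd' h₂ h₃ := by
    rintro p q rfl u v huv d d' hd hd' rfl V h₁ h₂ h₃
    rw [Subtype.ext huv]
  exact key (by ring) _ _ hz _ _ (by ring) _ _ _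

/-- Two descriptions of a section have equal images on their common domain. -/
lemma ev_eq_ev {U : (Proj 𝒜).Opens} (s : Γ(GrTilde.tilde 𝒜 ℳ 0, U)) (i j : ι) {t t' : ℕ}
    (m : ℳ t) (m' : ℳ t') {h h' : A} (hh : h ∈ 𝒜 t) (hh' : h' ∈ 𝒜 t') {W : (Proj 𝒜).Opens}
    (hW : W ≤ U) (hWh : W ≤ Proj.basicOpen 𝒜 h) (hWh' : W ≤ Proj.basicOpen 𝒜 h')
    (hi : W ≤ Proj.basicOpen 𝒜 (g i)) (hj : W ≤ Proj.basicOpen 𝒜 (g j))
    (hs : ∀ x hx, sval s x (hW hx) = GrModLib.mk x m.1 h (hWh hx))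
    (hs' : ∀ x hx, sval s x (hW hx) = GrModLib.mk x m'.1 h' (hWh' hx)) :
    C.ev i m hh hWh hi = C.ev j m' hh' hWh' hj := by
  rw [C.ev_chart i j m hh hWh hi hj]
  choose W' hW' hxW' e using fun x : W ↦
    C.exists_ev_eq j m m' hh hh' hWh hWh' hj x.1 x.2 ((hs x.1 x.2).symm.trans (hs' x.1 x.2))
  refine eq_of_locally_eq F hW' (fun x hx ↦ Opens.mem_iSup.mpr ⟨⟨x, hx⟩, hxW' _⟩) _ _ fun x ↦ ?_
  rw [res_ev, res_ev]
  exact e x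

/-- The relation between a section and its image. -/
def Rel (U : (Proj 𝒜).Opens) (s : Γ(GrTilde.tilde 𝒜 ℳ 0, U)) (τ : Γ(F, U)) : Prop :=
  ∀ (l : ι) (t : ℕ) (m : ℳ t) (h : A) (hh : h ∈ 𝒜 t) (W : (Proj 𝒜).Opens) (hW : W ≤ U)
    (hWh : W ≤ Proj.basicOpen 𝒜 h) (hWl : W ≤ Proj.basicOpen 𝒜 (g l)),
    (∀ x hx, sval s x (hW hx) = GrModLib.mk x m.1 h (hWh hx)) →
      res F hW τ = C.ev l m hh hWh hWl

variable (hcov : ⊤ ≤ ⨆ l, Proj.basicOpen 𝒜 (g l))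

include hg hcov in
omit [DirectSum.Decomposition ℳ] in
/-- Local descriptions of a section. -/
lemma exists_desc {U : (Proj 𝒜).Opens} (s : Γ(GrTilde.tilde 𝒜 ℳ 0, U)) (p : U) :
    ∃ (l : ι) (t : ℕ) (m : ℳ t) (h : A) (_ : h ∈ 𝒜 t) (W : (Proj 𝒜).Opens) (hW : W ≤ U)
      (hWh : W ≤ Proj.basicOpen 𝒜 h), W ≤ Proj.basicOpen 𝒜 (g l) ∧ p.1 ∈ W ∧
      ∀ x hx, sval s x (hW hx) = GrModLib.mk x m.1 h (hWh hx) := by
  obtain ⟨l, hl⟩ := Opens.mem_iSup.mp (hcov (trivial : p.1 ∈ (⊤ : (Proj 𝒜).Opens)))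
  obtain ⟨j, k, h, q, hh, -, hq, hk, hph, hval⟩ := exists_local_frac (hg l) one_pos 0
    (show GrMod.sect 𝒜 ℳ 0 (op U) from s) p.1 p.2 hl
  obtain rfl : k = j := by omega
  exact ⟨l, k, ⟨q, hq⟩, h, hh, Proj.basicOpen 𝒜 h, fun y hy ↦ (hval y hy).2.1, le_rfl,
    fun y hy ↦ (hval y hy).1, hph, fun y hy ↦ (hval y hy).2.2⟩

include hcov in
omit [DirectSum.Decomposition ℳ] in
lemma rel_unique {U : (Proj 𝒜).Opens} {s : Γ(GrTilde.tilde 𝒜 ℳ 0, U)} {τ τ' : Γ(F, U)}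
    (h₁ : C.Rel U s τ) (h₂ : C.Rel U s τ') : τ = τ' := by
  choose l t m h hh W hW hWh hWl hpW hs using exists_desc (hg := hg) hcov s
  refine eq_of_locally_eq F hW (fun x hx ↦ Opens.mem_iSup.mpr ⟨⟨x, hx⟩, hpW _⟩) _ _ fun p ↦ ?_
  rw [h₁ _ _ _ _ (hh p) _ _ (hWh p) (hWl p) (hs p), h₂ _ _ _ _ (hh p) _ _ (hWh p) (hWl p) (hs p)]

include hcov in
lemma exists_rel {U : (Proj 𝒜).Opens} (s : Γ(GrTilde.tilde 𝒜 ℳ 0, U)) : ∃ τ, C.Rel U s τ := by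
  choose l t m h hh W hW hWh hWl hpW hs using exists_desc (hg := hg) hcov s
  have hc : U ≤ ⨆ p, W p := fun x hx ↦ Opens.mem_iSup.mpr ⟨⟨x, hx⟩, hpW _⟩
  obtain ⟨τ, hτ⟩ := exists_glue F hW hc
    (fun p ↦ C.ev (l p) (m p) (hh p) (hWh p) (hWl p)) fun p q ↦ by
      rw [res_ev, res_ev]
      exact C.ev_eq_ev s _ _ _ _ _ _ (inf_le_left.trans (hW p)) _ _ _ _
        (fun x hx ↦ hs p x hx.1) (fun x hx ↦ hs q x hx.2)
  refine ⟨τ, fun l' t' m' h' hh' W' hW' hWh' hWl' hs' ↦ ?_⟩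
  refine eq_of_locally_eq F (U := fun p ↦ W' ⊓ W p) (fun p ↦ inf_le_left) (fun x hx ↦
    Opens.mem_iSup.mpr ⟨⟨x, hW' hx⟩, hx, hpW _⟩) _ _ fun p ↦ ?_
  rw [res_res, ← res_res F (hW p) (inf_le_right : W' ⊓ W p ≤ W p), hτ p, res_ev, res_ev]
  exact C.ev_eq_ev s _ _ _ _ _ _ (inf_le_left.trans hW') _ _ _ _
    (fun x hx ↦ hs p x hx.2) (fun x hx ↦ hs' x hx.1)

/-- The image of a section. -/
def img {U : (Proj 𝒜).Opens} (s : Γ(GrTilde.tilde 𝒜 ℳ 0, U)) : Γ(F, U) :=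
  (C.exists_rel hcov s).choose

lemma rel_img {U : (Proj 𝒜).Opens} (s : Γ(GrTilde.tilde 𝒜 ℳ 0, U)) : C.Rel U s (C.img hcov s) :=
  (C.exists_rel hcov s).choose_spec

lemma img_add {U : (Proj 𝒜).Opens} (s s' : Γ(GrTilde.tilde 𝒜 ℳ 0, U)) :
    C.img hcov (s + s') = C.img hcov s + C.img hcov s' := by
  refine C.rel_unique hcov (C.rel_img hcov _) fun l t m h hh W hW hWh hWl hs ↦ ?_
  choose l₁ t₁ m₁ h₁ hh₁ W₁ hW₁ hWh₁ hWl₁ hpW₁ hs₁ using exists_desc (hg := hg) hcov s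
  choose l₂ t₂ m₂ h₂ hh₂ W₂ hW₂ hWh₂ hWl₂ hpW₂ hs₂ using exists_desc (hg := hg) hcov s'
  refine eq_of_locally_eq F (U := fun p : U ↦ W ⊓ (W₁ p ⊓ W₂ p)) (fun p ↦ inf_le_left)
    (fun x hx ↦ Opens.mem_iSup.mpr ⟨⟨x, hW hx⟩, hx, hpW₁ _, hpW₂ _⟩) _ _ fun p ↦ ?_
  set V := W ⊓ (W₁ p ⊓ W₂ p)
  have hV₁ : V ≤ W₁ p := inf_le_right.trans inf_le_left
  have hV₂ : V ≤ W₂ p := inf_le_right.trans inf_le_right
  have hl : V ≤ Proj.basicOpen 𝒜 (g l) := inf_le_left.trans hWl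
  rw [res_res, res_ev, map_add,
    C.rel_img hcov s _ _ _ _ (hh₁ p) V (hV₁.trans (hW₁ p)) (hV₁.trans (hWh₁ p)) hl
      (fun x hx ↦ hs₁ p x (hV₁ hx)),
    C.rel_img hcov s' _ _ _ _ (hh₂ p) V (hV₂.trans (hW₂ p)) (hV₂.trans (hWh₂ p)) hl
      (fun x hx ↦ hs₂ p x (hV₂ hx))]
  have hA := C.ev_smul l (m₁ p) (hh₁ p) (hh₂ p) (hh₂ p) (hV₁.trans (hWh₁ p))
    (hV₂.trans (hWh₂ p)) hl
  have hB := C.ev_smul l (m₂ p) (hh₂ p) (hh₁ p) (hh₁ p) (hV₂.trans (hWh₂ p))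
    (hV₁.trans (hWh₁ p)) hl
  rw [ProjTwist.fracFun_self, one_smul] at hA hB
  have hsum : h₂ p • (m₁ p).1 + h₁ p • (m₂ p).1 ∈ ℳ (t₁ p + t₂ p) :=
    add_mem (add_comm (t₂ p) (t₁ p) ▸ SetLike.GradedSMul.smul_mem (hh₂ p) (m₁ p).2)
      (SetLike.GradedSMul.smul_mem (hh₁ p) (m₂ p).2)
  have hhh : h₁ p * h₂ p ∈ 𝒜 (t₁ p + t₂ p) := SetLike.mul_mem_graded (hh₁ p) (hh₂ p)
  have hle : V ≤ Proj.basicOpen 𝒜 (h₁ p * h₂ p) := le_mul (hV₁.trans (hWh₁ p)) (hV₂.trans (hWh₂ p))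
  refine Eq.trans ?_ (C.ev_eq_ev (s + s') l l ⟨_, hsum⟩ m hhh hh (inf_le_left.trans hW) hle
    (inf_le_left.trans hWh) hl hl (fun x hx ↦ ?_) fun x hx ↦ hs x hx.1)
  rotate_left
  · refine (congrArg₂ (· + ·) (hs₁ p x (hV₁ hx)) (hs₂ p x (hV₂ hx))).trans ?_
    exact LocalizedModule.mk_add_mk ..
  · have key : ∀ {u v : ℕ} (euv : u = v) (a : ℳ u) (b : ℳ v) (hab : a.1 = b.1) {d d' : A}
        (hd : d ∈ 𝒜 u) (hd' : d' ∈ 𝒜 v) (hdd : d = d') {V : (Proj 𝒜).Opens}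
        (h₁ : V ≤ Proj.basicOpen 𝒜 d) (h₂ : V ≤ Proj.basicOpen 𝒜 d')
        (h₃ : V ≤ Proj.basicOpen 𝒜 (g l)), C.ev l a hd h₁ h₃ = C.ev l b hd' h₂ h₃ := by
      rintro u v rfl a b hab d d' hd hd' rfl V h₁ h₂ h₃
      rw [Subtype.ext hab]
    have e1 := key (add_comm (t₂ p) (t₁ p))
      (⟨h₂ p • (m₁ p).1, SetLike.GradedSMul.smul_mem (hh₂ p) (m₁ p).2⟩ : ℳ (t₂ p + t₁ p))
      ⟨h₂ p • (m₁ p).1, add_comm (t₂ p) (t₁ p) ▸ SetLike.GradedSMul.smul_mem (hh₂ p) (m₁ p).2⟩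
      rfl (SetLike.mul_mem_graded (hh₂ p) (hh₁ p)) hhh (mul_comm _ _)
      (le_mul (hV₂.trans (hWh₂ p)) (hV₁.trans (hWh₁ p))) hle hl
    rw [← hA, ← hB, e1, ← ev_add]
    rfl

lemma img_smul {U : (Proj 𝒜).Opens} (c : Γ(Proj 𝒜, U)) (s : Γ(GrTilde.tilde 𝒜 ℳ 0, U)) :
    C.img hcov (c • s) = c • C.img hcov s := by
  refine C.rel_unique hcov (C.rel_img hcov _) fun l t m h hh W hW hWh hWl hs ↦ ?_
  choose l₁ t₁ m₁ h₁ hh₁ W₁ hW₁ hWh₁ hWl₁ hpW₁ hs₁ using exists_desc (hg := hg) hcov s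
  choose Vc hpVc iVc k a b hb hc using fun p : U ↦ (show Twist.O (𝒜 := 𝒜) (op U) from c).2 p
  refine eq_of_locally_eq F (U := fun p : U ↦ W ⊓ (W₁ p ⊓ Vc p)) (fun p ↦ inf_le_left)
    (fun x hx ↦ Opens.mem_iSup.mpr ⟨⟨x, hW hx⟩, hx, hpW₁ _, hpVc _⟩) _ _ fun p ↦ ?_
  set V := W ⊓ (W₁ p ⊓ Vc p)
  have hV₁ : V ≤ W₁ p := inf_le_right.trans inf_le_left
  have hVb : V ≤ Proj.basicOpen 𝒜 (b p : A) := fun x hx ↦ hb p ⟨x, hx.2.2⟩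
  have hl : V ≤ Proj.basicOpen 𝒜 (g l) := inf_le_left.trans hWl
  have hVU : V ≤ U := inf_le_left.trans hW
  have hcV : ∀ x hx, ProjTwist.valAt c x (hVU hx) =
      Localization.mk (a p : A) ⟨(b p : A), hVb hx⟩ := fun x hx ↦
    (congrArg HomogeneousLocalization.val (hc p ⟨x, hx.2.2⟩)).trans
      (HomogeneousLocalization.val_mk _)
  have hres : rres hVU c = ProjTwist.fracFun (a p).2 (b p).2 hVb :=
    ProjTwist.valAt_ext fun x hx ↦ (hcV x hx).trans (ProjTwist.valAt_fracFun _ _ _ x hx).symm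
  rw [res_res, res_ev, res_smul, hres,
    C.rel_img hcov s _ _ _ _ (hh₁ p) V hVU (hV₁.trans (hWh₁ p)) hl
      (fun x hx ↦ hs₁ p x (hV₁ hx)),
    ← C.ev_smul l (m₁ p) (hh₁ p) (a p).2 (b p).2 (hV₁.trans (hWh₁ p)) hVb hl]
  refine C.ev_eq_ev (c • s) l l _ m _ hh hVU _ (inf_le_left.trans hWh) hl hl (fun x hx ↦ ?_)
    fun x hx ↦ hs x hx.1
  refine (sval_smul c s x (hVU hx)).trans ?_
  refine (congrArg₂ (· • ·) (hcV x hx) (hs₁ p x (hV₁ hx))).trans ?_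
  exact LocalizedModule.mk_smul_mk _ _ _ _

lemma img_res {U V : (Proj 𝒜).Opens} (hVU : V ≤ U) (s : Γ(GrTilde.tilde 𝒜 ℳ 0, U)) :
    C.img hcov (res _ hVU s) = res F hVU (C.img hcov s) :=
  C.rel_unique hcov (C.rel_img hcov _) fun l t m h hh W hW hWh hWl hs ↦ by
    rw [res_res]
    exact C.rel_img hcov s l t m h hh W (hW.trans hVU) hWh hWl hs

/-- The morphism `M~ ⟶ F`. -/
def hom : GrTilde.tilde 𝒜 ℳ 0 ⟶ F :=
  ⟨PresheafOfModules.homMk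
    { app := fun U => AddCommGrpCat.ofHom
        (AddMonoidHom.mk' (fun s => C.img hcov (U := U.unop) s) (C.img_add hcov (U := U.unop)))
      naturality := fun U V f => by
        ext s
        exact C.img_res hcov (leOfHom f.unop) s }
    (fun U c s => C.img_smul hcov (U := U.unop) c s)⟩

lemma hom_app {U : (Proj 𝒜).Opens} (s : Γ(GrTilde.tilde 𝒜 ℳ 0, U)) :
    (C.hom hcov).app U s = C.img hcov s := rfl

/-- When `M~ ⟶ F` is an isomorphism. -/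
theorem isIso_hom [F.IsQuasicoherent]
    (hinj : ∀ (l : ι) (t : ℕ) (m : ℳ t), C.val l t m = 0 → ∃ N : ℕ, g l ^ N • m.1 = 0)
    (hsurj : ∀ (l : ι) (s : Γ(F, Proj.basicOpen 𝒜 (g l))), ∃ (t : ℕ) (m : ℳ t), C.val l t m = s) :
    IsIso (C.hom hcov) := by
  have := isQuasicoherent_tilde (𝒜 := 𝒜) (ℳ := ℳ) 0
  refine isIso_of_bijective_affine _ (fun l ↦ Proj.basicOpen 𝒜 (g l))
    (fun l ↦ Proj.isAffineOpen_basicOpen 𝒜 _ (hg l) one_pos) hcov fun l ↦ ?_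
  have hval : ∀ (t : ℕ) (m : ℳ t) (s : Γ(GrTilde.tilde 𝒜 ℳ 0, Proj.basicOpen 𝒜 (g l))),
      (∀ x hx, sval s x hx = GrModLib.mk x m.1 (g l ^ t) (pow_nin hx t)) →
        (C.hom hcov).app _ s = C.val l t m := fun t m s hs ↦ by
    have := C.rel_img hcov s l t m _ (pow_mem_one (hg l) t) _ le_rfl (le_pow le_rfl t) le_rfl hs
    rw [res_self] at this
    rw [hom_app, this, ev, res_self, ProjTwist.fracFun_self, one_smul]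
  constructor
  · rw [injective_iff_map_eq_zero]
    intro s hs
    obtain ⟨e, i, m, hm, hi, hv⟩ := exists_frac (ℳ := ℳ) (hg l) one_pos 0
      (U := Proj.basicOpen 𝒜 (g l)) (fun _ h ↦ h)
      (show GrMod.sect 𝒜 ℳ 0 (op (Proj.basicOpen 𝒜 (g l))) from s)
    obtain rfl : i = e := by omega
    obtain ⟨N, hN⟩ := hinj l i ⟨m, hm⟩ ((hval i ⟨m, hm⟩ s hv).symm.trans hs)
    refine sval_ext fun x hx ↦ (hv x hx).trans ?_
    exact mk_eq_zero_iff.mpr ⟨g l ^ N, pow_nin hx N, hN⟩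
  · intro s
    obtain ⟨t, m, hm⟩ := hsurj l s
    refine ⟨fracSec m.2 (pow_mem_one (hg l) t) 0 (add_zero _).symm (fun x ↦ pow_nin x.2 t), ?_⟩
    rw [hval t m _ fun x hx ↦ rfl, hm]

end ChartMaps

end Groth.Agent.ProjTilde
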