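import Groth.Agent.ProjTilde.GammaStar
import Groth.Prelude.Def_GrMod2

/-!
Quasi-coherent modules on `Proj` of a ring with finitely many degree one generators of the irrelevant
ideal: they are `M~`, with `M` finite if of finite type; quotients of twists.
-/

universe u

open CategoryTheory CategoryTheory.Limits AlgebraicGeometry TopologicalSpace Opposite

noncomputable section

namespace Groth.Agent.ProjTilde

open GrModLib DirectSum Groth.Agent.QCoh

variable {R A : Type u} [CommRing R] [CommRing A] [Algebra R A] {𝒜 : ℕ → Submodule R A}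
  [GradedAlgebra 𝒜]

/-- Degree one generators of the irrelevant ideal cover. -/
theorem exists_cover (s : Finset A) (hs1 : ∀ f ∈ s, f ∈ 𝒜 1)
    (hs : (HomogeneousIdeal.irrelevant 𝒜).toIdeal = Ideal.span (s : Set A)) :
    ∃ (r : ℕ) (g : Fin r → A) (_ : ∀ l, g l ∈ 𝒜 1), ⊤ ≤ ⨆ l, Proj.basicOpen 𝒜 (g l) := by
  classical
  refine ⟨s.card, fun l ↦ (s.equivFin.symm l).1, fun l ↦ hs1 _ (s.equivFin.symm l).2, fun x _ ↦ ?_⟩
  by_contra hx
  refine (show ProjectiveSpectrum 𝒜 from x).not_irrelevant_le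
    (show (HomogeneousIdeal.irrelevant 𝒜).toIdeal ≤ _ from ?_)
  rw [hs]
  refine Ideal.span_le.mpr fun f hf ↦ by_contra fun hfx ↦ hx ?_
  exact Opens.mem_iSup.mpr ⟨s.equivFin ⟨f, hf⟩, by simp only [Equiv.symm_apply_apply]; exact hfx⟩

/-- Quasi-coherent modules are of the form `M~`. -/
theorem exists_iso_tilde {r : ℕ} (g : Fin r → A) (hg : ∀ l, g l ∈ 𝒜 1)
    (hcov : ⊤ ≤ ⨆ l, Proj.basicOpen 𝒜 (g l)) (F : (Proj 𝒜).Modules) [F.IsQuasicoherent] :
    Nonempty (GrTilde.tilde 𝒜 (gsGr g hg F) 0 ≅ F) :=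
  have := exists_gs_iso (g := g) (hg := hg) (F := F) hcov
  ⟨asIso ((gsMaps g hg F).hom hcov)⟩

section Sub

variable {M : Type u} [AddCommGroup M] [Module R M] [Module A M] [IsScalarTower R A M]
  (ℳ : ℕ → Submodule R M) [DirectSum.Decomposition ℳ] [SetLike.GradedSMul 𝒜 ℳ]
  (P : Submodule A M)

/-- The pieces of a submodule. -/
def subGr (i : ℕ) : Submodule R P := (ℳ i).comap (P.subtype.restrictScalars R)

variable {ℳ P}

omit [DirectSum.Decomposition ℳ] in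
lemma mem_subGr {i : ℕ} {v : P} : v ∈ subGr ℳ P i ↔ (v : M) ∈ ℳ i := Iff.rfl

/-- The grading of a homogeneous submodule. -/
@[instance_reducible]
def subDecomposition (hP : IsHom ℳ P) : DirectSum.Decomposition (subGr ℳ P) :=
  GrModLib.decompositionOfProj _
    (fun i ↦
      { toFun := fun v ↦ ⟨cpt ℳ i v.1, hP v.1 v.2 i⟩
        map_add' := fun v w ↦ Subtype.ext (map_add (cpt ℳ i) v.1 w.1)
        map_smul' := fun c v ↦ Subtype.ext (by
          change (decompose ℳ (c • v.1) i : M) = c • (decompose ℳ v.1 i : M)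
          rw [decompose_smul]
          rfl) })
    (fun i v hv ↦ Subtype.ext (cpt_same hv))
    (fun i k hk v hv ↦ Subtype.ext (cpt_ne hv hk))
    (fun v ↦ by
      classical
      obtain ⟨s, hs⟩ := exists_sum_cpt (ℳ := ℳ) v.1
      have e : v = ∑ i ∈ s, (⟨cpt ℳ i v.1, hP v.1 v.2 i⟩ : P) :=
        Subtype.ext (by rw [Submodule.coe_sum]; exact hs.symm)
      rw [e]
      exact Submodule.sum_mem _ fun i _ ↦ Submodule.mem_iSup_of_mem i (mem_subGr.mpr (cpt_mem (ℳ := ℳ) i v.1)))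

instance subGradedSMul : SetLike.GradedSMul 𝒜 (subGr ℳ P) where
  smul_mem {_ _ _ v} ha hv := (SetLike.GradedSMul.smul_mem ha hv : _ • (v : M) ∈ ℳ _)

end Sub

/-- Quasi-coherent modules of finite type are `N~` with `N` finite. -/
theorem exists_iso_tilde_finite {r : ℕ} (g : Fin r → A) (hg : ∀ l, g l ∈ 𝒜 1)
    (hcov : ⊤ ≤ ⨆ l, Proj.basicOpen 𝒜 (g l)) (F : (Proj 𝒜).Modules) [F.IsQuasicoherent]
    [SheafOfModules.IsFiniteType.{u} F] :
    ∃ P : Submodule A (gs g hg F), Module.Finite A P ∧ IsHom (gsGr g hg F) P ∧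
      Nonempty (GrTilde.tilde 𝒜 (subGr (gsGr g hg F) P) 0 ≅ F) := by
  classical
  choose S hS using fun l ↦ (finite_sections_of_isFiniteType F
    (Proj.isAffineOpen_basicOpen 𝒜 _ (hg l) one_pos)).fg_top
  choose t v hv using fun p : Σ l, {s // s ∈ S l} ↦ gs_surj (hg := hg) p.1 p.2.1
  let gens : Set (gs g hg F) := Set.range fun p ↦ (v p : gs g hg F)
  have hP : IsHom (gsGr g hg F) (Submodule.span A gens) :=
    isHom_span (𝒜 := 𝒜) (by rintro _ ⟨p, rfl⟩; exact ⟨t p, (v p).2⟩)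
  let P := Submodule.span A gens
  letI := subDecomposition hP
  let C : ChartMaps (subGr (gsGr g hg F) P) F g hg :=
    { val := fun l n ↦ AddMonoidHom.mk'
        (fun w ↦ (gsMaps g hg F).val l n ⟨w.1.1, w.2⟩) fun a b ↦ rfl
      smul := fun l k n a ha w ↦ (gsMaps g hg F).smul l k n a ha ⟨w.1.1, w.2⟩
      compat := fun i j n w ↦ (gsMaps g hg F).compat i j n ⟨w.1.1, w.2⟩ }
  have hinj : ∀ (l : Fin r) (n : ℕ) (w : subGr (gsGr g hg F) P n), C.val l n w = 0 →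
      ∃ N : ℕ, g l ^ N • (w : P) = 0 := fun l n w hw ↦ by
    obtain ⟨N, hN⟩ := gs_inj l n ⟨w.1.1, w.2⟩ hw
    exact ⟨N, Subtype.ext hN⟩
  have hsurj : ∀ (l : Fin r) (s : Γ(F, Proj.basicOpen 𝒜 (g l))),
      ∃ (n : ℕ) (w : subGr (gsGr g hg F) P n), C.val l n w = s := by
    intro l s
    have hpad : ∀ (n q : ℕ) (w : subGr (gsGr g hg F) P n),
        ∃ w' : subGr (gsGr g hg F) P (q + n), C.val l (q + n) w' = C.val l n w := fun n q w ↦
      ⟨⟨g l ^ q • w.1, SetLike.GradedSMul.smul_mem (pow_mem_one (hg l) q) w.2⟩, by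
        rw [C.smul l q n _ (pow_mem_one (hg l) q) w, ProjTwist.fracFun_self, one_smul]⟩
    induction ((hS l).ge trivial : s ∈ Submodule.span Γ(Proj 𝒜, Proj.basicOpen 𝒜 (g l))
        (S l : Set Γ(F, Proj.basicOpen 𝒜 (g l)))) using Submodule.span_induction with
    | mem s hs =>
      exact ⟨t ⟨l, s, hs⟩, ⟨⟨(v ⟨l, s, hs⟩).1, Submodule.subset_span ⟨_, rfl⟩⟩, (v ⟨l, s, hs⟩).2⟩,
        hv ⟨l, s, hs⟩⟩
    | zero => exact ⟨0, 0, map_zero _⟩
    | add a b _ _ ha hb =>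
      obtain ⟨n, w, rfl⟩ := ha
      obtain ⟨n', w', rfl⟩ := hb
      obtain ⟨u, hu⟩ := hpad n n' w
      obtain ⟨u', hu'⟩ := hpad n' n w'
      refine ⟨n' + n, u + (add_comm n n' ▸ u'), ?_⟩
      rw [map_add, hu, ← hu']
      congr 1
      have key : ∀ {p q : ℕ} (e : p = q) (w : subGr (gsGr g hg F) P p),
          C.val l q (e ▸ w) = C.val l p w := by
        rintro p q rfl w
        rfl
      exact key _ u'
    | smul c a _ ha =>
      obtain ⟨n, w, rfl⟩ := ha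
      obtain ⟨k, e, he, rfl⟩ := exists_fracFun (hg l) one_pos c
      refine ⟨k * 1 + n, ⟨e • w.1, SetLike.GradedSMul.smul_mem he w.2⟩, ?_⟩
      rw [C.smul l (k * 1) n e he w]
      congr 1
      exact fracFun_eq _ _ _ _ _ _ (by rw [mul_one])
  have := C.isIso_hom hcov hinj hsurj
  exact ⟨P, Module.Finite.iff_fg.mpr (Submodule.fg_span (Set.finite_range _)), hP,
    ⟨asIso (C.hom hcov)⟩⟩

/-- Epimorphisms from sums of copies of `O(-n)` for large `n`. -/
theorem exists_epi_negative_twists {r : ℕ} (g : Fin r → A) (hg : ∀ l, g l ∈ 𝒜 1)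
    (hcov : ⊤ ≤ ⨆ l, Proj.basicOpen 𝒜 (g l)) (F : (Proj 𝒜).Modules) [F.IsQuasicoherent]
    [SheafOfModules.IsFiniteType.{u} F] :
    ∃ n₀ : ℕ, ∀ n : ℕ, n₀ ≤ n →
      ∃ (k : ℕ) (p : (∐ fun _ : Fin k ↦ Twist.twist 𝒜 (-(n : ℤ))) ⟶ F), Epi p := by
  classical
  choose S hS using fun l ↦ (finite_sections_of_isFiniteType F
    (Proj.isAffineOpen_basicOpen 𝒜 _ (hg l) one_pos)).fg_top
  let I := Σ l, {s // s ∈ S l}
  choose m D hD using fun p : I ↦ ProjTwist.exists_twistData g hg one_pos F p.1 p.2.1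
  refine ⟨Finset.univ.sup m, fun n hn ↦ ?_⟩
  have hm : ∀ p, m p ≤ n := fun p ↦ (Finset.le_sup (Finset.mem_univ p)).trans hn
  let D' : ∀ p, ProjTwist.TwistData g hg F n := fun p ↦
    { σ := fun i ↦ ProjTwist.fracFun (pow_mem_one (hg p.1) (n - m p)) (pow_mem_one (hg i) (n - m p))
        (le_pow le_rfl _) • (D p).σ i
      compat := fun i j ↦ by
        have h := compat_smul (hg := hg) (F := F) (pow_mem_one (hg p.1) (n - m p)) (D p).compat i j
        rwa [Nat.sub_add_cancel (hm p)] at h }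
  have hσ : ∀ p, (D' p).σ p.1 = p.2.1 := fun p ↦ by
    change ProjTwist.fracFun _ _ _ • (D p).σ p.1 = _
    rw [ProjTwist.fracFun_self, one_smul, hD]
  have hn1 : -(n : ℤ) = -((n • 1 : ℕ) : ℤ) := by simp
  let e := (Fintype.equivFin I).symm
  have hcov' : ⨆ l, Proj.basicOpen 𝒜 (g l) = ⊤ := top_le_iff.mp hcov
  refine ⟨Fintype.card I,
    Sigma.desc fun k ↦ eqToHom (by rw [hn1]) ≫ (D' (e k)).hom hcov', ?_⟩
  refine Preadditive.epi_of_cancel_zero _ fun {Q} π hπ ↦ ?_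
  refine ProjTwist.eq_zero_of_app_eq_zero π (fun l ↦ Proj.basicOpen 𝒜 (g l))
    (fun l ↦ Proj.isAffineOpen_basicOpen 𝒜 _ (hg l) one_pos) hcov' fun l x ↦ ?_
  refine ProjTwist.app_eq_zero_of_span π (hS l) (fun s hs ↦ ?_) x
  obtain ⟨k, hk⟩ := e.surjective ⟨l, s, hs⟩
  have h0 : (D' (e k)).hom hcov' ≫ π = 0 := by
    have h1 := congrArg (Sigma.ι (fun _ : Fin (Fintype.card I) ↦ Twist.twist 𝒜 (-(n : ℤ))) k ≫ ·) hπ
    simp only [Sigma.ι_desc_assoc, comp_zero] at h1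
    rw [Category.assoc, ← comp_zero (f := eqToHom (by rw [hn1] :
      Twist.twist 𝒜 (-(n : ℤ)) = Twist.twist 𝒜 (-((n • 1 : ℕ) : ℤ))))] at h1
    exact (cancel_epi _).mp h1
  have key : ∀ (p : I) (_ : (D' p).hom hcov' ≫ π = 0),
      π.app (Proj.basicOpen 𝒜 (g p.1)) p.2.1 = 0 := by
    intro p hp
    have hpow : Proj.basicOpen 𝒜 (g p.1) ≤ Proj.basicOpen 𝒜 (g p.1 ^ n) := le_pow le_rfl n
    rw [← hσ p, ← (D' p).hom_app_denSec hcov' p.1 hpow]
    exact congr(($hp).app _ (ProjTwist.denSec (SetLike.pow_mem_graded n (hg p.1)) hpow))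
  rw [hk] at h0
  exact key ⟨l, s, hs⟩ h0

end Groth.Agent.ProjTilde
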