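import Groth.Agent.ProjTilde.FG

/-!
`M(-ρ)~` is of finite type for a finitely generated tail.
-/

universe u

open CategoryTheory CategoryTheory.Limits AlgebraicGeometry TopologicalSpace Opposite

noncomputable section

namespace Groth.Agent.ProjTilde

open GrModLib DirectSum Groth.Agent.QCoh

variable {R A : Type u} [CommRing R] [CommRing A] [Algebra R A] {𝒜 : ℕ → Submodule R A}
  [GradedAlgebra 𝒜] {M : Type u} [AddCommGroup M] [Module R M] [Module A M]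
  {ℳ : ℕ → Submodule R M} [DirectSum.Decomposition ℳ] [SetLike.GradedSMul 𝒜 ℳ]

/-- `M(-ρ)~` is of finite type when the tail is finitely generated. -/
theorem isFiniteType_tilde_neg (ρ : ℕ) (hfg : (HomogeneousIdeal.irrelevant 𝒜).toIdeal.FG)
    (hTF : ∃ k : ℕ, (tail (A := A) ℳ k).FG) :
    SheafOfModules.IsFiniteType.{u} (GrTilde.tilde 𝒜 ℳ (-(ρ : ℤ))) := by
  classical
  obtain ⟨k₀, hk₀⟩ := hTF
  obtain ⟨-, r, y, j, -, hy, htail⟩ := exists_tail_gens 𝒜 hk₀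
  obtain ⟨N, g, d, hd, hg, hirr⟩ := exists_gens_of_fg 𝒜 hfg
  have := isQuasicoherent_tilde (𝒜 := 𝒜) (ℳ := ℳ) (-(ρ : ℤ))
  refine isFiniteType_of_forall_exists _ fun x ↦ ?_
  obtain ⟨l₀, hl₀⟩ := exists_not_mem g hirr (show ProjectiveSpectrum 𝒜 from x)
  set f := g l₀
  set δ := d l₀
  have hδ : 0 < δ := hd l₀
  have hf : f ∈ 𝒜 δ := hg l₀
  refine ⟨_, Proj.isAffineOpen_basicOpen 𝒜 f hf hδ, hl₀, ?_⟩
  set U := Proj.basicOpen 𝒜 f
  have hU : ∀ (e : ℕ) (x : U), f ^ e ∉ (show ProjectiveSpectrum 𝒜 from x.1).asHomogeneousIdeal :=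
    fun e x ↦ pow_nin x.2 e
  let I := {p : Fin r × (Fin N → Fin δ) // δ ∣ (∑ l, (p.2 l : ℕ) * d l) + j p.1 + ρ}
  let gen : I → Γ(GrTilde.tilde 𝒜 ℳ (-(ρ : ℤ)), U) := fun p ↦
    fracSec (SetLike.GradedSMul.smul_mem (mono_mem hg fun l ↦ (p.1.2 l : ℕ)) (hy p.1.1))
      (pow_mem_deg hf (((∑ l, (p.1.2 l : ℕ) * d l) + j p.1.1 + ρ) / δ)) (-(ρ : ℤ))
      (by rw [Nat.div_mul_cancel p.2, vadd_eq_add]; push_cast; ring) (hU _)
  let S := Submodule.span Γ(Proj 𝒜, U) (Set.range gen)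
  let ok : ℕ → ℕ → M → Prop := fun e i m ↦ ∀ (hi : i + ρ = e * δ) (hm : m ∈ ℳ i),
    (fracSec hm (pow_mem_deg hf e) (-(ρ : ℤ)) (by rw [← hi]; push_cast; ring) (hU e) :
      Γ(GrTilde.tilde 𝒜 ℳ (-(ρ : ℤ)), U)) ∈ S
  suffices H : ∀ (e i : ℕ) (m : M), k₀ ≤ i → ok e i m by
    refine ⟨⟨Finset.univ.image gen, ?_⟩⟩
    rw [Finset.coe_image, Finset.coe_univ, Set.image_univ]
    refine eq_top_iff.mpr fun s _ ↦ ?_
    obtain ⟨e, i, m, hm, hi, hval⟩ := exists_frac (ℳ := ℳ) hf hδ (-(ρ : ℤ)) (U := U) (fun _ h ↦ h)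
      (show GrMod.sect 𝒜 ℳ (-(ρ : ℤ)) (op U) from s)
    have hi' : i + ρ = e * δ := by zify; linarith
    have hm' : f ^ k₀ • m ∈ ℳ (k₀ * δ + i) := by
      have h := SetLike.GradedSMul.smul_mem (pow_mem_deg hf k₀) hm
      rwa [vadd_eq_add] at h
    have h := H (k₀ + e) _ _ (by
      have : k₀ * 1 ≤ k₀ * δ := Nat.mul_le_mul_left _ hδ
      omega) (by rw [add_mul, ← hi', add_assoc]) hm'
    refine (congrArg (· ∈ S) (sval_ext fun x hx ↦ ?_ : s = _)).mpr h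
    refine (hval x hx).trans ?_
    change _ = GrModLib.mk x (f ^ k₀ • m) (f ^ (k₀ + e)) _
    refine mk_eq_mk_iff.mpr ⟨1, GrMod.one_nin x, ?_⟩
    rw [one_smul, sub_eq_zero, ← mul_smul, ← pow_add, add_comm k₀ e]
  intro e i m hk hi hm
  -- the elementary fractions
  have key : ∀ (s : Fin r) (c : A) (q : Fin N → ℕ), c ∈ 𝒜 0 →
      (∑ l, q l * d l) + j s = i → ok e i ((c * mono g q) • y s) := fun s c q hc hq _ hm' ↦ by
    let q1 : Fin N → Fin δ := fun l ↦ ⟨q l % δ, Nat.mod_lt _ hδ⟩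
    let q2 : Fin N → ℕ := fun l ↦ δ * (q l / δ)
    have hqq : q = q2 + fun l ↦ (q1 l : ℕ) := funext fun l ↦ (Nat.div_add_mod (q l) δ).symm
    set Q := ∑ l, (q l / δ) * d l
    have hQ : ∑ l, q2 l * d l = Q * δ := by
      rw [Finset.sum_mul]
      exact Finset.sum_congr rfl fun l _ ↦ by simp only [q2]; ring
    have hsum : Q * δ + ((∑ l, (q1 l : ℕ) * d l) + j s + ρ) = e * δ := by
      rw [← hi, ← hq, ← hQ, ← add_assoc, ← add_assoc, ← Finset.sum_add_distrib]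
      congr 2
      exact Finset.sum_congr rfl fun l _ ↦ by rw [← add_mul, hqq]; rfl
    have hdvd : δ ∣ (∑ l, (q1 l : ℕ) * d l) + j s + ρ :=
      (Nat.dvd_add_right ⟨Q, mul_comm _ _⟩).mp (hsum ▸ ⟨e, mul_comm _ _⟩)
    set e' := ((∑ l, (q1 l : ℕ) * d l) + j s + ρ) / δ
    have he : Q + e' = e := Nat.eq_of_mul_eq_mul_right hδ (by
      rw [add_mul, Nat.div_mul_cancel hdvd, hsum])
    have hb : c * mono g q2 ∈ 𝒜 (Q * δ) := by
      simpa [hQ] using SetLike.mul_mem_graded hc (mono_mem hg q2)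
    refine (congrArg (· ∈ S) (sval_ext fun x hx ↦ ?_ : _ =
      ProjTwist.fracFun hb (pow_mem_deg hf Q) (fun z hz ↦ hU Q ⟨z, hz⟩ : U ≤ _) •
        gen ⟨(s, q1), hdvd⟩)).mpr (Submodule.smul_mem _ _ (Submodule.subset_span ⟨_, rfl⟩))
    refine Eq.trans ?_ (sval_smul _ _ x hx).symm
    refine Eq.trans ?_ (congrArg₂ (· • ·) (ProjTwist.valAt_fracFun hb (pow_mem_deg hf Q)
      (fun z hz ↦ hU Q ⟨z, hz⟩ : U ≤ _) x hx).symm rfl)
    change GrModLib.mk x _ _ _ = _ • GrModLib.mk x _ _ _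
    refine Eq.trans ?_ (LocalizedModule.mk_smul_mk _ _ _ _).symm
    refine mk_eq_mk_iff.mpr ⟨1, GrMod.one_nin x, ?_⟩
    rw [one_smul, sub_eq_zero]
    simp only [← mul_smul]
    congr 1
    rw [← he, pow_add, hqq, mono_add]
    ring
  -- additivity
  have hzero : ok e i 0 := fun _ hm' ↦ by
    refine (congrArg (· ∈ S) (sval_ext fun x hx ↦ ?_ :
      _ = (0 : Γ(GrTilde.tilde 𝒜 ℳ (-(ρ : ℤ)), U)))).mpr (zero_mem S)
    exact LocalizedModule.zero_mk _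
  have hadd : ∀ a b, a ∈ ℳ i → b ∈ ℳ i → ok e i a → ok e i b → ok e i (a + b) :=
    fun a b ha hb h₁ h₂ _ hm' ↦ by
      refine (congrArg (· ∈ S) (sval_ext fun x hx ↦ ?_ : _ = _)).mpr (add_mem (h₁ hi ha) (h₂ hi hb))
      change GrModLib.mk x (a + b) _ _ = GrModLib.mk x a _ _ + GrModLib.mk x b _ _
      rw [GrModLib.mk, GrModLib.mk, GrModLib.mk, LocalizedModule.mk_add_mk, ← smul_add]
      exact (LocalizedModule.mk_cancel_common_left _ _ _).symm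
  have hneg : ∀ a, a ∈ ℳ i → ok e i a → ok e i (-a) := fun a ha h₁ _ hm' ↦ by
    refine (congrArg (· ∈ S) (sval_ext fun x hx ↦ ?_ : _ = _)).mpr (neg_mem (h₁ hi ha))
    exact LocalizedModule.mk_neg
  -- every element of the tail
  have hmP : m ∈ Submodule.span A (Set.range y) := htail ▸ mem_tail hk hm
  obtain ⟨c, hc⟩ := (Submodule.mem_span_range_iff_exists_fun A).mp hmP
  suffices H : ∀ s, cpt ℳ i (c s • y s) ∈ ℳ i ∧ ok e i (cpt ℳ i (c s • y s)) by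
    have h1 : m = ∑ s, cpt ℳ i (c s • y s) := by rw [← map_sum, hc, cpt_same hm]
    have h2 : ∑ s, cpt ℳ i (c s • y s) ∈ ℳ i ∧
        ok e i (∑ s, cpt ℳ i (c s • y s)) := by
      refine Finset.sum_induction _ (fun a ↦ a ∈ ℳ i ∧ ok e i a)
        (fun a b ha hb ↦ ⟨add_mem ha.1 hb.1, hadd a b ha.1 hb.1 ha.2 hb.2⟩)
        ⟨zero_mem _, hzero⟩ fun s _ ↦ H s
    have h3 : ok e i m := h1 ▸ h2.2
    exact h3 hi hm
  intro s
  refine ⟨cpt_mem _ _, ?_⟩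
  rw [cpt_smul_right (𝒜 := 𝒜) (hy s)]
  split_ifs with hle
  · have ha := mem_closure_mono hd hg hirr _ _
      (SetLike.coe_mem (decompose 𝒜 (c s) (i - j s)))
    generalize (decompose 𝒜 (c s) (i - j s) : A) = a at ha
    refine (AddSubgroup.closure_induction
      (p := fun a _ ↦ a • y s ∈ ℳ i ∧ ok e i (a • y s)) ?_ ?_ ?_ ?_ ha).2
    · rintro z ⟨b, hb, q, hq, rfl⟩
      refine ⟨?_, key s b q hb (by omega)⟩
      have h := SetLike.GradedSMul.smul_mem (SetLike.mul_mem_graded hb (mono_mem hg q)) (hy s)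
      rwa [zero_add, vadd_eq_add, hq, Nat.sub_add_cancel hle] at h
    · rw [zero_smul]; exact ⟨zero_mem _, hzero⟩
    · intro a b _ _ ha hb
      rw [add_smul]
      exact ⟨add_mem ha.1 hb.1, hadd _ _ ha.1 hb.1 ha.2 hb.2⟩
    · intro a _ ha
      rw [neg_smul]
      exact ⟨neg_mem ha.1, hneg _ ha.1 ha.2⟩
  · exact hzero

end Groth.Agent.ProjTilde
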